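import Groth.Agent.An.H890.Conserv
import Groth.Agent.An.H875.ProperMap
import Groth.Agent.S4195

/-!
# Cartesian squares of schemes over `ℂ` and degree zero proper base change on complex points

* `isPB_uMap`, `isPB_pts`;
* `isIso_clBC0_proper`.
-/

set_option autoImplicit false
open CategoryTheory CategoryTheory.Limits AlgebraicGeometry Opposite TopologicalSpace Topology
open Groth.Agent.An.H884.ClBC Groth.Agent.An.H883.EpsLim
open Groth.Agent.An.H890.SqPush Groth.Agent.An.H890.ULiftSite
open Groth.Agent.An.H890.Mates Groth.Agent.An.H890.Theta Groth.Agent.An.H890.TopBC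
open Groth.Agent.CohtopB Groth.Agent.CohtopA Groth.Agent.CohtopA.PBSquare Filter

noncomputable section

namespace Groth.Agent.An.H890.PtsPB

section Top

variable {A B A' B' : Type} [TopologicalSpace A] [TopologicalSpace B] [TopologicalSpace A']
  [TopologicalSpace B'] {f : C(A, B)} {g : C(B', B)} {f' : C(A', B')} {g' : C(A', A)}

lemma nhds_uT {T : Type} [TopologicalSpace T] (x : ULift.{1} T) :
    𝓝 x = comap ULift.down (𝓝 x.down) :=
  Homeomorph.ulift.isInducing.nhds_eq_comap x

theorem isPB_uMap (w : f.comp g' = g.comp f')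
    (hs : ∀ (a : A) (b' : B'), f a = g b' → ∃ a', g' a' = a ∧ f' a' = b')
    (hi : Function.Injective (fun x : A' => (g' x, f' x)))
    (hind : IsInducing (fun x : A' => (g' x, f' x))) :
    IsPB (uMap g') (uMap f') (uMap f) (uMap g) where
  comm x' := ULift.ext _ _ (DFunLike.congr_fun w x'.down)
  surj x y' h := by
    obtain ⟨a', h1, h2⟩ := hs x.down y'.down (congrArg ULift.down h)
    exact ⟨ULift.up a', ULift.ext _ _ h1, ULift.ext _ _ h2⟩
  inj x₁ x₂ h1 h2 := ULift.ext _ _ (hi (Prod.ext (congrArg ULift.down h1) (congrArg ULift.down h2)))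
  nhds x' := by
    rw [nhds_uT x', nhds_uT (uMap g' x'), nhds_uT (uMap f' x'), hind.nhds_eq_comap, nhds_prod_eq,
      Filter.prod_eq_inf, comap_inf, comap_inf, comap_comap, comap_comap, comap_comap, comap_comap,
      comap_comap, comap_comap]
    rfl

/-- Degree zero proper base change on classical sites. -/
theorem isIso_clBC0_of_proper (w : f.comp g' = g.comp f') (hp : IsProperMap f)
    (hsep : IsSeparatedMap f) (h : IsPB (uMap g') (uMap f') (uMap f) (uMap g)) (F : An.Cl.Ab A) :
    IsIso ((bcOf (adjCl g') (adjCl g) (clTheta w).hom).app F) := by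
  apply isIso_clBC0
  have hpu : IsProperMap (uMap f) := by
    have h1 : IsProperMap (ULift.up.{1} : B → ULift.{1} B) := Homeomorph.ulift.symm.isProperMap
    have h2 : IsProperMap (ULift.down.{1} : ULift.{1} A → A) := Homeomorph.ulift.isProperMap
    exact h1.comp (hp.comp h2)
  refine ProperBC.isIso_β (uMap g') (uMap f') (uMap f) (uMap g) _ hpu h ?_
  intro x x' hxx hne
  obtain ⟨U, V, hU, hV, hxU, hxV, hd⟩ := hsep x.down x'.down (congrArg ULift.down hxx)
    (fun hc => hne (ULift.ext _ _ hc))
  exact ⟨ULift.down ⁻¹' U, ULift.down ⁻¹' V, hU.preimage continuous_uliftDown,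
    hV.preimage continuous_uliftDown, hxU, hxV, hd.preimage _⟩

end Top

section Scheme

variable {X S X' S' : Scheme.{0}} [X.Over An.SC] [S.Over An.SC] [X'.Over An.SC] [S'.Over An.SC]
  {f : X ⟶ S} {g : S' ⟶ S} {f' : X' ⟶ S'} {g' : X' ⟶ X} (h : IsPullback g' f' f g)
  [f.IsOver An.SC] [g.IsOver An.SC] [f'.IsOver An.SC] [g'.IsOver An.SC]

include h in
theorem isPB_pts : IsPB (uMap (An.Pts.mapC g')) (uMap (An.Pts.mapC f')) (uMap (An.Pts.mapC f))
    (uMap (An.Pts.mapC g)) := by
  refine isPB_uMap (mapC_w h.w) ?_ ?_ ?_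
  · intro a b' e
    exact ⟨liftPt h a b' e, Subtype.ext (liftPt_val_fst h a b' e),
      Subtype.ext (liftPt_val_snd h a b' e)⟩
  · intro x y e
    exact Subtype.ext (h.hom_ext (congrArg (fun q => q.1.1) e) (congrArg (fun q => q.2.1) e))
  · let T := {q : An.Pts X × An.Pts S' // An.Pts.map f q.1 = An.Pts.map g q.2}
    let L : T → An.Pts X' := fun q => liftPt h q.1.1 q.1.2 q.2
    have hL : Continuous L := continuous_liftPt h (fun q : T => q.1.1) (fun q => q.1.2)
      (continuous_fst.comp continuous_subtype_val) (continuous_snd.comp continuous_subtype_val)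
      (fun q => q.2)
    have hc : ∀ z : An.Pts X', An.Pts.map f (An.Pts.map g' z) = An.Pts.map g (An.Pts.map f' z) :=
      fun z => DFunLike.congr_fun (mapC_w h.w) z
    let J : An.Pts X' → T := fun z => ⟨(An.Pts.map g' z, An.Pts.map f' z), hc z⟩
    have hJ : Continuous J :=
      ((An.Pts.continuous_map g').prodMk (An.Pts.continuous_map f')).subtype_mk _
    have hLJ : Function.LeftInverse L J := fun z => Subtype.ext (h.hom_ext
      (liftPt_val_fst h _ _ (hc z)) (liftPt_val_snd h _ _ (hc z)))
    exact IsInducing.subtypeVal.comp (hLJ.isEmbedding hL hJ).isInducing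

include h in
/-- Degree zero proper base change on complex points. -/
theorem isIso_clBC0_proper [LocallyOfFiniteType (X ↘ An.SC)] [LocallyOfFiniteType (S ↘ An.SC)]
    [IsProper f] (F : An.Cl.Ab (An.Pts X)) :
    IsIso ((bcOf (adjCl (An.Pts.mapC g')) (adjCl (An.Pts.mapC g))
      (clTheta (mapC_w h.w)).hom).app F) := by
  refine isIso_clBC0_of_proper (mapC_w h.w) ?_ ?_ (isPB_pts h) F
  · exact Groth.Agent.An.H875.ProperMap.isProperMap_map f
  · exact (Groth.Agent.S4195.result X S f).1 inferInstance

end Scheme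

end Groth.Agent.An.H890.PtsPB
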