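import Groth.Agent.An.H890.PtCl
import Groth.Agent.An.H890.PtsPB
import Groth.Agent.S0157
import Groth.Agent.S4209

/-!
# Reduction of the degree zero comparison to the fibres; finite morphisms

* `isIso_pullCl_theta`: the cube argument;
* `isIso_theta_of_fibres`: for `f` proper, `θ_f` is an isomorphism at `F` if for all fibres
  `Z = X_s` the map `(F|_Z)(Z) → (ε^* F|_Z)(Z(ℂ))` is bijective;
* `isIso_theta_of_isFinite`: for `f` finite, `θ_f` is an isomorphism.
-/

set_option autoImplicit false
open CategoryTheory CategoryTheory.Limits AlgebraicGeometry Opposite TopologicalSpace Topology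
open Groth.Agent.An.H884.ClBC
open Groth.Agent.An.H890.ULiftSite Groth.Agent.An.H890.PtsPB Groth.Agent.An.H890.PtCl
open Groth.Agent.An.H890.Mates Groth.Agent.An.H890.Theta Groth.Agent.An.H890.EtaLoc
open Groth.Agent.An.H885.ClPoint Groth.Agent.An.H885.EpsGerm

noncomputable section

namespace Groth.Agent.An.H890.FibreRed

section Cube

variable {X S X' S' : Scheme.{0}} [X.Over An.SC] [S.Over An.SC] [X'.Over An.SC] [S'.Over An.SC]
  {f : X ⟶ S} {g : S' ⟶ S} {f' : X' ⟶ S'} {g' : X' ⟶ X} (h : IsPullback g' f' f g)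
  [f.IsOver An.SC] [g.IsOver An.SC] [f'.IsOver An.SC] [g'.IsOver An.SC]
  [LocallyOfFiniteType (X ↘ An.SC)] [LocallyOfFiniteType (S ↘ An.SC)]
  [LocallyOfFiniteType (X' ↘ An.SC)] [LocallyOfFiniteType (S' ↘ An.SC)] [Fact An.EtaleLH]
  [An.EpsCont X] [An.EpsCont S] [An.EpsCont X'] [An.EpsCont S']

include h in
/-- **The cube argument**: `g(ℂ)^* θ_f` is an isomorphism at `F` if `θ_{f'}` is one at `g'^* F`. -/
theorem isIso_pullCl_theta [IsProper f] (F : EtCoh.Ab X)
    (hF : IsIso ((theta f').app ((EtCoh.pull g').obj F))) :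
    IsIso ((pullCl (An.Pts.mapC g)).map ((theta f).app F)) := by
  refine isIso_of_cube (G := EtCoh.push f) (K := pushCl (An.Pts.mapC f'))
    (H₁ := pushCl (An.Pts.mapC f)) (H₂ := EtCoh.push f')
    (An.epsAdj X) (An.epsAdj S) (adjCl (An.Pts.mapC g')) (adjCl (An.Pts.mapC g))
    (EtCoh.pullPushAdj g') (EtCoh.pullPushAdj g) (An.epsAdj X') (An.epsAdj S')
    (gamma f).hom (clTheta (mapC_w h.w)).hom (etTheta h.w).hom (gamma f').hom
    (gamma g').symm (gamma g).symm (cube_compat h.w) F ?_ hF ?_
  · rw [← baseChange0_eq]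
    exact Groth.Agent.S0157.result f f' g' g h F
  · exact isIso_clBC0_proper h _

end Cube

section Fibres

instance isOver_pt {S : Scheme.{0}} [S.Over An.SC] (s : An.Pts S) : s.1.IsOver An.SC := ⟨s.2⟩

variable {X S : Scheme.{0}} [X.Over An.SC] [S.Over An.SC] (f : X ⟶ S) [f.IsOver An.SC]
  [LocallyOfFiniteType (X ↘ An.SC)] [LocallyOfFiniteType (S ↘ An.SC)] [Fact An.EtaleLH]
  [An.EpsCont X] [An.EpsCont S]

/-- The fibre of `f` at a complex point. -/
abbrev fib (s : An.Pts S) : Scheme.{0} := pullback f s.1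

/-- The inclusion of the fibre. -/
abbrev fibι (s : An.Pts S) : fib f s ⟶ X := pullback.fst f s.1

omit [LocallyOfFiniteType (X ↘ An.SC)] [LocallyOfFiniteType (S ↘ An.SC)] [Fact An.EtaleLH]
  [An.EpsCont X] [An.EpsCont S] in
lemma fib_over (s : An.Pts S) : (fib f s ↘ An.SC) = pullback.snd f s.1 :=
  (comp_over (pullback.snd f s.1) An.SC).symm.trans (Category.comp_id _)

instance lft_fib [LocallyOfFiniteType f] (s : An.Pts S) :
    LocallyOfFiniteType (fib f s ↘ An.SC) := by
  rw [fib_over]; infer_instance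

instance isProper_fib [IsProper f] (s : An.Pts S) : IsProper (fib f s ↘ An.SC) := by
  rw [fib_over]; infer_instance

instance isFinite_fib [IsFinite f] (s : An.Pts S) : IsFinite (fib f s ↘ An.SC) := by
  rw [fib_over]; infer_instance

instance epsCont_fib [LocallyOfFiniteType f] (s : An.Pts S) : An.EpsCont (fib f s) :=
  Groth.Agent.S4209.result _

/-- Reduction of the degree zero comparison to the fibres. -/
theorem isIso_theta_of_fibres [IsProper f] (F : EtCoh.Ab X)
    (h : ∀ s : An.Pts S, Function.Bijective (eta (fib f s)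
      ((EtCoh.pull (fibι f s)).obj F) (EtCoh.top (fib f s)))) :
    IsIso ((theta f).app F) := by
  have hSC : An.EpsCont An.SC := Groth.Agent.S4209.result _
  refine Groth.Agent.An.H890.Conserv.isIso_of_pullCl (fun s : An.Pts S => An.Pts.mapC s.1) ?_ _ ?_
  · intro s
    exact ⟨s, H878.Point.point, Subtype.ext (Category.id_comp _)⟩
  · intro s
    exact isIso_pullCl_theta (IsPullback.of_hasPullback f s.1) F
      (isIso_theta_pt (pullback.snd f s.1) _ (h s))

/-- Finite morphisms: `(f_* F)^an = f(ℂ)_* F^an` for every abelian sheaf `F`. -/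
theorem isIso_theta_app_of_isFinite [IsFinite f] (F : EtCoh.Ab X) : IsIso ((theta f).app F) :=
  isIso_theta_of_fibres f F fun s => bijective_eta_top (fib f s) _

instance isIso_theta_of_isFinite [IsFinite f] : IsIso (theta f) := by
  have := isIso_theta_app_of_isFinite f
  exact NatIso.isIso_of_isIso_app _

end Fibres

end Groth.Agent.An.H890.FibreRed
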