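import Mathlib.CategoryTheory.Adjunction.Unique

/-!
# Base change transformations (mates) characterised by the unit

* `bcOf adj₁ adj₂ θ : G ⋙ L₂ ⟶ L₁ ⋙ H` for `θ : R₁ ⋙ G ⟶ H ⋙ R₂`;
* `bcOf_app_eq` : uniqueness by the unit property;
* `bcOf_comp` : pasting;
* `isIso_bcOf_iff` : invariance under isomorphisms of the right adjoints;
* `isIso_of_cube` : the cube lemma.
-/

set_option autoImplicit false

open CategoryTheory

namespace Groth.Agent.An.H890.Mates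

section basic

variable {C D E F : Type*} [Category* C] [Category* D] [Category* E] [Category* F]
  {L₁ : C ⥤ D} {R₁ : D ⥤ C} {L₂ : E ⥤ F} {R₂ : F ⥤ E} {G : C ⥤ E} {H : D ⥤ F}
  (adj₁ : L₁ ⊣ R₁) (adj₂ : L₂ ⊣ R₂) (θ : R₁ ⋙ G ⟶ H ⋙ R₂)

/-- The base change transformation `G ⋙ L₂ ⟶ L₁ ⋙ H` attached to `θ : R₁ ⋙ G ⟶ H ⋙ R₂`. -/
def bcOf : G ⋙ L₂ ⟶ L₁ ⋙ H where
  app c := (adj₂.homEquiv _ _).symm (G.map (adj₁.unit.app c) ≫ θ.app (L₁.obj c))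
  naturality c c' φ := by
    have h1 := adj₂.homEquiv_naturality_left_symm (G.map φ)
      (G.map (adj₁.unit.app c') ≫ θ.app (L₁.obj c'))
    have h2 := adj₂.homEquiv_naturality_right_symm
      (G.map (adj₁.unit.app c) ≫ θ.app (L₁.obj c)) (H.map (L₁.map φ))
    refine h1.symm.trans (Eq.trans ?_ h2)
    congr 1
    have h3 := θ.naturality (L₁.map φ)
    have h4 := adj₁.unit.naturality φ
    simp only [Functor.comp_map, Functor.id_map] at h3 h4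
    rw [Category.assoc, ← Category.assoc, ← G.map_comp, h4, G.map_comp, Category.assoc, h3]

theorem unit_bcOf (c : C) : adj₂.unit.app (G.obj c) ≫ R₂.map ((bcOf adj₁ adj₂ θ).app c) =
    G.map (adj₁.unit.app c) ≫ θ.app (L₁.obj c) := by
  have h := adj₂.homEquiv_unit (f := (bcOf adj₁ adj₂ θ).app c)
  exact h.symm.trans (Equiv.apply_symm_apply _ _)

theorem eq_bcOf_app {c : C} (x : L₂.obj (G.obj c) ⟶ H.obj (L₁.obj c))
    (h : adj₂.unit.app (G.obj c) ≫ R₂.map x = G.map (adj₁.unit.app c) ≫ θ.app (L₁.obj c)) :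
    x = (bcOf adj₁ adj₂ θ).app c := by
  apply (adj₂.homEquiv _ _).injective
  rw [Adjunction.homEquiv_unit, h]
  exact (Equiv.apply_symm_apply _ _).symm

end basic

section comp

variable {C D E F : Type*} [Category* C] [Category* D] [Category* E] [Category* F]
  {D' F' : Type*} [Category* D'] [Category* F']
  {L₁ : C ⥤ D} {R₁ : D ⥤ C} {L₂ : E ⥤ F} {R₂ : F ⥤ E} {G : C ⥤ E} {H : D ⥤ F}
  {L₃ : D ⥤ D'} {R₃ : D' ⥤ D} {L₄ : F ⥤ F'} {R₄ : F' ⥤ F} {K : D' ⥤ F'}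
  (adj₁ : L₁ ⊣ R₁) (adj₂ : L₂ ⊣ R₂) (θ : R₁ ⋙ G ⟶ H ⋙ R₂)
  (adj₃ : L₃ ⊣ R₃) (adj₄ : L₄ ⊣ R₄) (θ' : R₃ ⋙ H ⟶ K ⋙ R₄)

/-- Pasting of the transformations between right adjoints. -/
@[simps]
def paste : (R₃ ⋙ R₁) ⋙ G ⟶ K ⋙ (R₄ ⋙ R₂) where
  app d := θ.app (R₃.obj d) ≫ R₂.map (θ'.app d)
  naturality d d' φ := by
    have h1 := θ.naturality (R₃.map φ)
    have h2 := θ'.naturality φ
    simp only [Functor.comp_map, Category.assoc] at h1 h2 ⊢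
    have h3 := congrArg (fun t => R₂.map t) h2
    simp only [Functor.map_comp] at h3
    rw [← h3]
    simp only [← Category.assoc]
    exact congrArg (· ≫ R₂.map (θ'.app d')) h1

/-- Base change transformations paste. -/
theorem bcOf_comp (c : C) :
    (bcOf (adj₁.comp adj₃) (adj₂.comp adj₄) (paste θ θ')).app c =
      L₄.map ((bcOf adj₁ adj₂ θ).app c) ≫ (bcOf adj₃ adj₄ θ').app (L₁.obj c) := by
  symm
  apply eq_bcOf_app (adj₁.comp adj₃) (adj₂.comp adj₄) (paste θ θ')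
  have h1 := unit_bcOf adj₁ adj₂ θ c
  have h2 := unit_bcOf adj₃ adj₄ θ' (L₁.obj c)
  have h3 := adj₄.unit.naturality ((bcOf adj₁ adj₂ θ).app c)
  have h4 := θ.naturality (adj₃.unit.app (L₁.obj c))
  simp only [Functor.id_map, Functor.comp_map, Functor.id_obj, Functor.comp_obj] at h1 h2 h3 h4
  have e1 : (adj₂.comp adj₄).unit.app (G.obj c) = adj₂.unit.app (G.obj c) ≫
      R₂.map (adj₄.unit.app (L₂.obj (G.obj c))) := by simp [Adjunction.comp]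
  have e2 : (adj₁.comp adj₃).unit.app c = adj₁.unit.app c ≫
      R₁.map (adj₃.unit.app (L₁.obj c)) := by simp [Adjunction.comp]
  rw [e1, e2]
  simp only [Functor.comp_map, Functor.map_comp, paste_app, Category.assoc, Functor.comp_obj]
  rw [← R₂.map_comp_assoc, ← h3, R₂.map_comp_assoc, reassoc_of% h1]
  have h5 := congrArg (fun t => R₂.map t) h2
  simp only [Functor.map_comp] at h5
  rw [h5]
  simp only [← Category.assoc]
  congr 1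
  simp only [Category.assoc]
  exact congrArg (fun t => G.map (adj₁.unit.app c) ≫ t) h4.symm

end comp

section congr

variable {C D E F : Type*} [Category* C] [Category* D] [Category* E] [Category* F]
  {L₁ L₁' : C ⥤ D} {R₁ R₁' : D ⥤ C} {L₂ L₂' : E ⥤ F} {R₂ R₂' : F ⥤ E} {G : C ⥤ E} {H : D ⥤ F}
  (adj₁ : L₁ ⊣ R₁) (adj₂ : L₂ ⊣ R₂) (θ : R₁ ⋙ G ⟶ H ⋙ R₂)
  (adj₁' : L₁' ⊣ R₁') (adj₂' : L₂' ⊣ R₂') (θ' : R₁' ⋙ G ⟶ H ⋙ R₂')
  (ι₁ : R₁ ≅ R₁') (ι₂ : R₂ ≅ R₂')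

/-- The isomorphism of left adjoints attached to an isomorphism of right adjoints. -/
def leftIso : L₁ ≅ L₁' := Adjunction.leftAdjointUniq (adj₁.ofNatIsoRight ι₁) adj₁'

theorem unit_leftIso (c : C) : adj₁.unit.app c ≫ ι₁.hom.app (L₁.obj c) ≫
    R₁'.map ((leftIso adj₁ adj₁' ι₁).hom.app c) = adj₁'.unit.app c := by
  have h := Adjunction.unit_leftAdjointUniq_hom_app (adj₁.ofNatIsoRight ι₁) adj₁' c
  have h2 : (adj₁.ofNatIsoRight ι₁).unit.app c = adj₁.unit.app c ≫ ι₁.hom.app (L₁.obj c) := by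
    simp [Adjunction.ofNatIsoRight]
  rw [h2, Category.assoc] at h
  exact h

/-- Compatibility of base change transformations with isomorphisms of the right adjoints. -/
theorem bcOf_congr (h : ∀ d, G.map (ι₁.hom.app d) ≫ θ'.app d = θ.app d ≫ ι₂.hom.app (H.obj d))
    (c : C) : (leftIso adj₂ adj₂' ι₂).hom.app (G.obj c) ≫ (bcOf adj₁' adj₂' θ').app c =
      (bcOf adj₁ adj₂ θ).app c ≫ H.map ((leftIso adj₁ adj₁' ι₁).hom.app c) := by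
  have key : (bcOf adj₁' adj₂' θ').app c = (leftIso adj₂ adj₂' ι₂).inv.app (G.obj c) ≫
      (bcOf adj₁ adj₂ θ).app c ≫ H.map ((leftIso adj₁ adj₁' ι₁).hom.app c) := by
    symm
    apply eq_bcOf_app
    have h1 := unit_leftIso adj₁ adj₁' ι₁ c
    have h2 := unit_leftIso adj₂ adj₂' ι₂ (G.obj c)
    have h3 := unit_bcOf adj₁ adj₂ θ c
    rw [← h2, ← h1]
    simp only [Category.assoc, Functor.map_comp]
    have e1 : R₂'.map ((leftIso adj₂ adj₂' ι₂).hom.app (G.obj c)) ≫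
        R₂'.map ((leftIso adj₂ adj₂' ι₂).inv.app (G.obj c)) = 𝟙 _ := by
      rw [← R₂'.map_comp, Iso.hom_inv_id_app, R₂'.map_id]
    rw [reassoc_of% e1]
    have e2 := ι₂.hom.naturality ((bcOf adj₁ adj₂ θ).app c)
    have e3 := ι₂.hom.naturality (H.map ((leftIso adj₁ adj₁' ι₁).hom.app c))
    have e4 := θ'.naturality ((leftIso adj₁ adj₁' ι₁).hom.app c)
    simp only [Functor.comp_map, Functor.comp_obj] at e2 e3 e4 h3
    rw [← reassoc_of% e2, reassoc_of% h3, e4, reassoc_of% (h (L₁.obj c))]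
  rw [key, Iso.hom_inv_id_app_assoc]

theorem isIso_bcOf_iff (h : ∀ d, G.map (ι₁.hom.app d) ≫ θ'.app d = θ.app d ≫ ι₂.hom.app (H.obj d))
    (c : C) : IsIso ((bcOf adj₁ adj₂ θ).app c) ↔ IsIso ((bcOf adj₁' adj₂' θ').app c) := by
  have key := bcOf_congr adj₁ adj₂ θ adj₁' adj₂' θ' ι₁ ι₂ h c
  constructor
  · intro hi
    have : IsIso ((leftIso adj₂ adj₂' ι₂).hom.app (G.obj c) ≫ (bcOf adj₁' adj₂' θ').app c) := by
      rw [key]; infer_instance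
    exact IsIso.of_isIso_comp_left ((leftIso adj₂ adj₂' ι₂).hom.app (G.obj c)) _
  · intro hi
    have : IsIso ((bcOf adj₁ adj₂ θ).app c ≫ H.map ((leftIso adj₁ adj₁' ι₁).hom.app c)) := by
      rw [← key]; infer_instance
    exact IsIso.of_isIso_comp_right _ (H.map ((leftIso adj₁ adj₁' ι₁).hom.app c))

end congr

section cube

variable {C E D' F' D₁ F₁ D₂ F₂ : Type*} [Category* C] [Category* E] [Category* D']
  [Category* F'] [Category* D₁] [Category* F₁] [Category* D₂] [Category* F₂]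
  {G : C ⥤ E} {K : D' ⥤ F'} {H₁ : D₁ ⥤ F₁} {H₂ : D₂ ⥤ F₂}
  {L₁ : C ⥤ D₁} {R₁ : D₁ ⥤ C} (a₁ : L₁ ⊣ R₁) {M₁ : E ⥤ F₁} {S₁ : F₁ ⥤ E} (b₁ : M₁ ⊣ S₁)
  {L₁' : D₁ ⥤ D'} {R₁' : D' ⥤ D₁} (a₁' : L₁' ⊣ R₁') {M₁' : F₁ ⥤ F'} {S₁' : F' ⥤ F₁}
  (b₁' : M₁' ⊣ S₁')
  {L₂ : C ⥤ D₂} {R₂ : D₂ ⥤ C} (a₂ : L₂ ⊣ R₂) {M₂ : E ⥤ F₂} {S₂ : F₂ ⥤ E} (b₂ : M₂ ⊣ S₂)
  {L₂' : D₂ ⥤ D'} {R₂' : D' ⥤ D₂} (a₂' : L₂' ⊣ R₂') {M₂' : F₂ ⥤ F'} {S₂' : F' ⥤ F₂}
  (b₂' : M₂' ⊣ S₂')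
  (θ₁ : R₁ ⋙ G ⟶ H₁ ⋙ S₁) (θ₁' : R₁' ⋙ H₁ ⟶ K ⋙ S₁')
  (θ₂ : R₂ ⋙ G ⟶ H₂ ⋙ S₂) (θ₂' : R₂' ⋙ H₂ ⟶ K ⋙ S₂')
  (ι : R₁' ⋙ R₁ ≅ R₂' ⋙ R₂) (κ : S₁' ⋙ S₁ ≅ S₂' ⋙ S₂)

/-- The cube lemma: the composite base change transformations of the two paths are isomorphic. -/
theorem isIso_cube_iff
    (h : ∀ d, G.map (ι.hom.app d) ≫ θ₂.app (R₂'.obj d) ≫ S₂.map (θ₂'.app d) =
      (θ₁.app (R₁'.obj d) ≫ S₁.map (θ₁'.app d)) ≫ κ.hom.app (K.obj d)) (c : C) :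
    IsIso (M₁'.map ((bcOf a₁ b₁ θ₁).app c) ≫ (bcOf a₁' b₁' θ₁').app (L₁.obj c)) ↔
      IsIso (M₂'.map ((bcOf a₂ b₂ θ₂).app c) ≫ (bcOf a₂' b₂' θ₂').app (L₂.obj c)) := by
  rw [← bcOf_comp, ← bcOf_comp]
  exact isIso_bcOf_iff (a₁.comp a₁') (b₁.comp b₁') (paste θ₁ θ₁') (a₂.comp a₂') (b₂.comp b₂')
    (paste θ₂ θ₂') ι κ (fun d => by simpa using h d) c

/-- If the base change maps of the second path are isomorphisms and the second map of the first path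
too, then the first map of the first path is an isomorphism after `M₁'`. -/
theorem isIso_of_cube
    (h : ∀ d, G.map (ι.hom.app d) ≫ θ₂.app (R₂'.obj d) ≫ S₂.map (θ₂'.app d) =
      (θ₁.app (R₁'.obj d) ≫ S₁.map (θ₁'.app d)) ≫ κ.hom.app (K.obj d)) (c : C)
    (h₂ : IsIso ((bcOf a₂ b₂ θ₂).app c)) (h₂' : IsIso ((bcOf a₂' b₂' θ₂').app (L₂.obj c)))
    (h₁' : IsIso ((bcOf a₁' b₁' θ₁').app (L₁.obj c))) :
    IsIso (M₁'.map ((bcOf a₁ b₁ θ₁).app c)) := by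
  have := (isIso_cube_iff a₁ b₁ a₁' b₁' a₂ b₂ a₂' b₂' θ₁ θ₁' θ₂ θ₂' ι κ h c).2 inferInstance
  exact IsIso.of_isIso_comp_right _ ((bcOf a₁' b₁' θ₁').app (L₁.obj c))

end cube

end Groth.Agent.An.H890.Mates
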