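import Mathlib.CategoryTheory.Sites.Pullback
import Groth.Agent.An.H890.Mates

/-!
# Squares of continuous functors and direct images

For `t : F ⋙ H ≅ K ⋙ G` (continuous functors between sites), the isomorphism of direct images
`sqPush t : H_* ⋙ F_* ≅ G_* ⋙ K_*` given on sections by `t⁻¹`.
-/

set_option autoImplicit false
universe v u v₁ v₂ v₃ v₄ u₁ u₂ u₃ u₄

open CategoryTheory Opposite

namespace Groth.Agent.An.H890.SqPush

variable {C : Type u₁} [Category.{v₁} C] {D : Type u₂} [Category.{v₂} D]
  {C' : Type u₃} [Category.{v₃} C'] {D' : Type u₄} [Category.{v₄} D']
  {F : C ⥤ D} {H : D ⥤ D'} {K : C ⥤ C'} {G : C' ⥤ D'} (t : F ⋙ H ≅ K ⋙ G)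
  (A : Type u) [Category.{v} A]
  (JC : GrothendieckTopology C) (JD : GrothendieckTopology D)
  (JC' : GrothendieckTopology C') (JD' : GrothendieckTopology D')
  [F.IsContinuous JC JD] [H.IsContinuous JD JD'] [K.IsContinuous JC JC'] [G.IsContinuous JC' JD']

/-- The isomorphism of direct images attached to a square of continuous functors. -/
@[simps]
def sqPush : H.sheafPushforwardContinuous A JD JD' ⋙ F.sheafPushforwardContinuous A JC JD ≅
    G.sheafPushforwardContinuous A JC' JD' ⋙ K.sheafPushforwardContinuous A JC JC' where
  hom :=
    { app := fun M => ⟨{ app := fun U => M.obj.map (t.inv.app U.unop).op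
                         naturality := fun U V g => by
                          change M.obj.map (H.map (F.map g.unop)).op ≫ M.obj.map _ =
                            M.obj.map _ ≫ M.obj.map (G.map (K.map g.unop)).op
                          rw [← Functor.map_comp, ← Functor.map_comp, ← op_comp, ← op_comp]
                          congr 2
                          exact (t.inv.naturality g.unop).symm }⟩
      naturality := fun M N φ => by
        apply Sheaf.hom_ext
        ext U : 2
        exact (φ.hom.naturality _).symm }
  inv :=
    { app := fun M => ⟨{ app := fun U => M.obj.map (t.hom.app U.unop).op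
                         naturality := fun U V g => by
                          change M.obj.map (G.map (K.map g.unop)).op ≫ M.obj.map _ =
                            M.obj.map _ ≫ M.obj.map (H.map (F.map g.unop)).op
                          rw [← Functor.map_comp, ← Functor.map_comp, ← op_comp, ← op_comp]
                          congr 2
                          exact (t.hom.naturality g.unop).symm }⟩
      naturality := fun M N φ => by
        apply Sheaf.hom_ext
        ext U : 2
        exact (φ.hom.naturality _).symm }
  hom_inv_id := by
    ext M : 2
    apply Sheaf.hom_ext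
    ext U : 2
    change M.obj.map _ ≫ M.obj.map _ = 𝟙 _
    rw [← Functor.map_comp, ← op_comp, Iso.hom_inv_id_app]
    exact M.obj.map_id _
  inv_hom_id := by
    ext M : 2
    apply Sheaf.hom_ext
    ext U : 2
    change M.obj.map _ ≫ M.obj.map _ = 𝟙 _
    rw [← Functor.map_comp, ← op_comp, Iso.inv_hom_id_app]
    exact M.obj.map_id _

end Groth.Agent.An.H890.SqPush
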