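import Groth.Prelude.Def_AnEps
import Groth.Agent.An.H883.EpsLim
import Groth.Agent.An.H884.ClBC

/-!
# Complex points of base changes of étale schemes

* `epsBC f : EtCoh.bc f ⋙ An.eps X ≅ An.eps S ⋙ clBC (Pts.mapC f)`, `z ↦ (z_X, z_U)`.
-/

set_option autoImplicit false
open CategoryTheory CategoryTheory.Limits AlgebraicGeometry Opposite TopologicalSpace Topology
open Groth.Agent.An.H884.ClBC Groth.Agent.An.H883.EpsLim

noncomputable section

namespace Groth.Agent.An.H890.EpsBC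

section geom

variable {X S : Scheme.{0}} (f : X ⟶ S)

/-- The first projection `U ×_S X ⟶ U`. -/
def bcFst (U : S.Etale) : ((EtCoh.bc f).obj U).left ⟶ U.left := pullback.fst U.hom f

/-- `U ×_S X` is a fibre product. -/
lemma isPullback_bc (U : S.Etale) :
    IsPullback (bcFst f U) (((EtCoh.bc f).obj U).left ↘ X) (U.left ↘ S) f :=
  IsPullback.of_hasPullback U.hom f

set_option backward.isDefEq.respectTransparency.types false in
lemma bcFst_naturality {U V : S.Etale} (g : U ⟶ V) :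
    ((EtCoh.bc f).map g).left ≫ bcFst f V = bcFst f U ≫ g.left := by
  dsimp [EtCoh.bc, bcFst]
  exact pullback.lift_fst _ _ _

lemma left_over {U V : X.Etale} (g : U ⟶ V) : g.left ≫ (V.left ↘ X) = U.left ↘ X := Over.w g.hom

end geom

variable {X S : Scheme.{0}} [X.Over An.SC] [S.Over An.SC] (f : X ⟶ S) [f.IsOver An.SC]

instance bcFst_isOver (U : S.Etale) : (bcFst f U).IsOver An.SC :=
  ⟨by
    change bcFst f U ≫ (U.left ↘ S) ≫ (S ↘ An.SC) = (((EtCoh.bc f).obj U).left ↘ X) ≫ (X ↘ An.SC)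
    rw [← comp_over f An.SC, ← Category.assoc, ← Category.assoc, (isPullback_bc f U).w]⟩

lemma map_cond (U : S.Etale) (z : An.Pts ((EtCoh.bc f).obj U).left) :
    An.Pts.map f (An.Pts.map (((EtCoh.bc f).obj U).left ↘ X) z) =
      An.Pts.map (U.left ↘ S) (An.Pts.map (bcFst f U) z) := by
  apply Subtype.ext
  change (z.1 ≫ (((EtCoh.bc f).obj U).left ↘ X)) ≫ f = (z.1 ≫ bcFst f U) ≫ (U.left ↘ S)
  rw [Category.assoc, Category.assoc, (isPullback_bc f U).w]

variable [LocallyOfFiniteType (X ↘ An.SC)] [LocallyOfFiniteType (S ↘ An.SC)] [Fact An.EtaleLH]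

/-- The comparison map `(U ×_S X)(ℂ) → X(ℂ) ×_{S(ℂ)} U(ℂ)`. -/
def toCl (U : S.Etale) : (An.eps X).obj ((EtCoh.bc f).obj U) ⟶
    (clBC (An.Pts.mapC f)).obj ((An.eps S).obj U) where
  toFun z := ⟨(An.Pts.map (((EtCoh.bc f).obj U).left ↘ X) z, An.Pts.map (bcFst f U) z),
    map_cond f U z⟩
  continuous := Continuous.subtype_mk ((An.Pts.continuous_map _).prodMk (An.Pts.continuous_map _)) _
  over _ := rfl

lemma toCl_fst_val (U : S.Etale) (z : An.Pts ((EtCoh.bc f).obj U).left) :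
    ((toCl f U).toFun z).1.1.1 = z.1 ≫ (((EtCoh.bc f).obj U).left ↘ X) := rfl

lemma toCl_snd_val (U : S.Etale) (z : An.Pts ((EtCoh.bc f).obj U).left) :
    ((toCl f U).toFun z).1.2.1 = z.1 ≫ bcFst f U := rfl

/-- The inverse of the comparison map. -/
def ofCl (U : S.Etale) : (clBC (An.Pts.mapC f)).obj ((An.eps S).obj U) ⟶
    (An.eps X).obj ((EtCoh.bc f).obj U) where
  toFun q := liftPt (isPullback_bc f U) q.1.2 q.1.1 q.2.symm
  continuous := continuous_liftPt (isPullback_bc f U)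
    (fun q : (bcObj (An.Pts.mapC f) ((An.eps S).obj U)).E => q.1.2)
    (fun q => q.1.1) (continuous_snd.comp continuous_subtype_val)
    (continuous_fst.comp continuous_subtype_val) (fun q => q.2.symm)
  over q := Subtype.ext (liftPt_val_snd (isPullback_bc f U) q.1.2 q.1.1 q.2.symm)

lemma ofCl_val_fst (U : S.Etale) (q : (bcObj (An.Pts.mapC f) ((An.eps S).obj U)).E) :
    ((ofCl f U).toFun q).1 ≫ bcFst f U = q.1.2.1 :=
  liftPt_val_fst (isPullback_bc f U) q.1.2 q.1.1 q.2.symm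

lemma ofCl_val_snd (U : S.Etale) (q : (bcObj (An.Pts.mapC f) ((An.eps S).obj U)).E) :
    ((ofCl f U).toFun q).1 ≫ (((EtCoh.bc f).obj U).left ↘ X) = q.1.1.1 :=
  liftPt_val_snd (isPullback_bc f U) q.1.2 q.1.1 q.2.symm

/-- The comparison isomorphism `(U ×_S X)(ℂ) ≅ X(ℂ) ×_{S(ℂ)} U(ℂ)`. -/
def isoCl (U : S.Etale) : (An.eps X).obj ((EtCoh.bc f).obj U) ≅
    (clBC (An.Pts.mapC f)).obj ((An.eps S).obj U) where
  hom := toCl f U
  inv := ofCl f U
  hom_inv_id := An.Cl.hom_ext (funext fun z => Subtype.ext ((isPullback_bc f U).hom_ext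
    (ofCl_val_fst f U ((toCl f U).toFun z)) (ofCl_val_snd f U ((toCl f U).toFun z))))
  inv_hom_id := An.Cl.hom_ext (funext fun q => Subtype.ext (Prod.ext
    (Subtype.ext (ofCl_val_snd f U q)) (Subtype.ext (ofCl_val_fst f U q))))

set_option backward.isDefEq.respectTransparency.types false in
lemma epsBC_aux {U V : S.Etale} (g : U ⟶ V) :
    (An.eps X).map ((EtCoh.bc f).map g) ≫ toCl f V =
      toCl f U ≫ (clBC (An.Pts.mapC f)).map ((An.eps S).map g) := by
  refine An.Cl.hom_ext (funext fun z => Subtype.ext (Prod.ext (Subtype.ext ?_) (Subtype.ext ?_)))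
  · change (z.1 ≫ ((EtCoh.bc f).map g).left) ≫ (((EtCoh.bc f).obj V).left ↘ X) =
        z.1 ≫ (((EtCoh.bc f).obj U).left ↘ X)
    rw [Category.assoc, left_over]
  · change (z.1 ≫ ((EtCoh.bc f).map g).left) ≫ bcFst f V = (z.1 ≫ bcFst f U) ≫ g.left
    rw [Category.assoc, Category.assoc, bcFst_naturality]

/-- Complex points of base changes. -/
def epsBC : EtCoh.bc f ⋙ An.eps X ≅ An.eps S ⋙ clBC (An.Pts.mapC f) :=
  NatIso.ofComponents (fun U => isoCl f U) (fun g => epsBC_aux f g)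

end Groth.Agent.An.H890.EpsBC
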