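import Groth.Agent.An.H890.TopBC
import Groth.Agent.CohtopA.Germ

/-!
# Inverse image on classical sites: comparison with topological spaces, exactness, conservativity

* `pullU g : pullCl g ⋙ resU T' ≅ resU T ⋙ CohTop.pull (uMap g)`;
* `isIso_of_pullCl`: a morphism is an isomorphism if its inverse images along a jointly surjective
  family of maps are.
-/

set_option autoImplicit false
open CategoryTheory CategoryTheory.Limits Opposite TopologicalSpace Topology
open Groth.Agent.An.H884.ClBC
open Groth.Agent.An.H890.SqPush Groth.Agent.An.H890.ULiftSite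
open Groth.Agent.An.H890.Mates Groth.Agent.An.H890.Theta Groth.Agent.An.H890.TopBC
open Groth.Agent.CohtopB Groth.Agent.CohtopA

noncomputable section

namespace Groth.Agent.An.H890.Conserv

variable {T T' : Type} [TopologicalSpace T] [TopologicalSpace T'] (g : C(T', T))

instance additive_pushCl : (pushCl g).Additive where

instance additive_resU : (resU T).Additive where
  map_add := rfl

instance preservesFiniteLimits_resU : PreservesFiniteLimits (resU T) := by
  have : PreservesLimitsOfSize.{0, 0} (resU T) := (adjU T).rightAdjoint_preservesLimits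
  exact PreservesLimitsOfSize.preservesFiniteLimits _

instance preservesFiniteColimits_resU : PreservesFiniteColimits (resU T) := by
  have : PreservesColimitsOfSize.{0, 0} (resU T) :=
    (resU T).asEquivalence.toAdjunction.leftAdjoint_preservesColimits
  exact PreservesColimitsOfSize.preservesFiniteColimits _

/-- Comparison of the right adjoints. -/
def pushU : (resU T').inv ⋙ pushCl g ≅ CohTop.push (uMap g) ⋙ (resU T).inv :=
  (Functor.rightUnitor _).symm ≪≫
    Functor.isoWhiskerLeft ((resU T').inv ⋙ pushCl g) (resU T).asEquivalence.unitIso ≪≫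
    Functor.associator _ _ _ ≪≫
    Functor.isoWhiskerLeft (resU T').inv ((Functor.associator _ _ _).symm ≪≫
      Functor.isoWhiskerRight (resUPush g) (resU T).inv ≪≫ Functor.associator _ _ _) ≪≫
    (Functor.associator _ _ _).symm ≪≫
    Functor.isoWhiskerRight (resU T').asEquivalence.counitIso (CohTop.push (uMap g) ⋙ (resU T).inv) ≪≫
    Functor.leftUnitor _

/-- `resU` commutes with inverse images. -/
def pullU : pullCl g ⋙ resU T' ≅ resU T ⋙ CohTop.pull (uMap g) :=
  leftIso ((adjCl g).comp (resU T').asEquivalence.toAdjunction)
    ((resU T).asEquivalence.toAdjunction.comp (TopPull.adj (uMap g))) (pushU g)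

instance preservesFiniteLimits_pullCl : PreservesFiniteLimits (pullCl g) := by
  have h00 : PreservesFiniteLimits (CohTop.pull (uMap g)) :=
    TopPull.preservesFiniteLimits_pull (uMap g)
  have h0 : PreservesFiniteLimits (resU T ⋙ CohTop.pull (uMap g)) :=
    comp_preservesFiniteLimits _ _
  have h1 : PreservesFiniteLimits (pullCl g ⋙ resU T') :=
    preservesFiniteLimits_of_natIso (pullU g).symm
  exact preservesFiniteLimits_of_reflects_of_preserves (pullCl g) (resU T')

instance preservesColimits_pullCl : PreservesColimitsOfSize.{0, 0} (pullCl g) :=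
  (adjCl g).leftAdjoint_preservesColimits

instance preservesFiniteColimits_pullCl : PreservesFiniteColimits (pullCl g) :=
  PreservesColimitsOfSize.preservesFiniteColimits _

instance additive_pullCl : (pullCl g).Additive := (adjCl g).left_adjoint_additive

theorem injective_pushCl (I : An.Cl.Ab T') [Injective I] : Injective ((pushCl g).obj I) :=
  Injective.injective_of_adjoint (adjCl g) I

/-- Conservativity of a jointly surjective family of inverse images. -/
theorem isIso_of_pullCl {ι : Type*} {P : ι → Type} [∀ i, TopologicalSpace (P i)]
    (g : ∀ i, C(P i, T)) (hg : ∀ t : T, ∃ (i : ι) (p : P i), g i p = t)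
    {F G : An.Cl.Ab T} (φ : F ⟶ G) (hφ : ∀ i, IsIso ((pullCl (g i)).map φ)) : IsIso φ := by
  have h1 : ∀ i, IsIso ((CohTop.pull (uMap (g i))).map ((resU T).map φ)) := by
    intro i
    have := hφ i
    have hn := (pullU (g i)).hom.naturality φ
    have h0 : IsIso ((pullCl (g i) ⋙ resU (P i)).map φ) := by
      change IsIso ((resU (P i)).map ((pullCl (g i)).map φ))
      infer_instance
    have h2 : IsIso ((pullU (g i)).hom.app F ≫
        (resU T ⋙ CohTop.pull (uMap (g i))).map φ) := by
      rw [← hn]
      exact IsIso.comp_isIso
    exact @IsIso.of_isIso_comp_left _ _ _ _ _ ((pullU (g i)).hom.app F) _ inferInstance h2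
  have h2 : IsIso ((resU T).map φ) := by
    apply Germ.isIso_of_stalk
    rintro ⟨t⟩
    obtain ⟨i, p, rfl⟩ := hg t
    have h3 := (TopPull.stalkComp (uMap (g i)) (ULift.up p)).naturality ((resU T).map φ)
    have h4 : IsIso ((TopPull.stalkF (uMap (g i) (ULift.up p))).map ((resU T).map φ)) := by
      have e1 := TopPull.isIso_stalkComp_app (uMap (g i)) (ULift.up p) ((resU T).obj F)
      have e2 := TopPull.isIso_stalkComp_app (uMap (g i)) (ULift.up p) ((resU T).obj G)
      have := h1 i
      have h5 : IsIso ((TopPull.stalkF (uMap (g i) (ULift.up p))).map ((resU T).map φ) ≫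
          (TopPull.stalkComp (uMap (g i)) (ULift.up p)).app ((resU T).obj G)) := by
        rw [h3]
        have : IsIso ((CohTop.pull (uMap (g i)) ⋙ TopPull.stalkF (ULift.up p)).map
          ((resU T).map φ)) := by
          change IsIso ((TopPull.stalkF (X := uT (P i)) (ULift.up p)).map
            ((CohTop.pull (uMap (g i))).map ((resU T).map φ)))
          infer_instance
        infer_instance
      exact IsIso.of_isIso_comp_right _ ((TopPull.stalkComp (uMap (g i)) (ULift.up p)).app
        ((resU T).obj G))
    exact (ConcreteCategory.isIso_iff_bijective _).1 h4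
  exact isIso_of_reflects_iso φ (resU T)

end Groth.Agent.An.H890.Conserv
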