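import Groth.Prelude.Def_AnCl
import Groth.Prelude.Def_CohTop
import Groth.Agent.S4212
import Groth.Agent.An.H884.ClBC
import Groth.Agent.An.H890.SqPush

/-!
# Sheaves on a space `T : Type` with values one universe up as sheaves on `ULift T`

* `uT T : TopCat.{1}`, `uMap f`;
* `uToCl T : Opens (uT T) ⥤ Cl T`;
* `resU T : Cl.Ab T ⥤ CohTop.Ab (uT T)`, an equivalence;
* `pushCl f`, `resUPush f : pushCl f ⋙ resU T' ≅ resU T ⋙ CohTop.push (uMap f)`.
-/

set_option autoImplicit false

open CategoryTheory CategoryTheory.Limits TopologicalSpace Topology Opposite An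
open Groth.Agent.An.H884.ClBC Groth.Agent.An.H890.SqPush

noncomputable section

namespace Groth.Agent.An.H890.ULiftSite

section Space

variable (T : Type) [TopologicalSpace T]

/-- The space `T` one universe up. -/
abbrev uT : TopCat.{1} := TopCat.of (ULift.{1} T)

/-- The functor `V ↦ {t | up t ∈ V}`. -/
def dn : Opens (uT T) ⥤ Opens T where
  obj V := ⟨{t | (ULift.up t : ULift.{1} T) ∈ V}, V.2.preimage continuous_uliftUp⟩
  map h := homOfLE (fun _ ht => h.le ht)

/-- The functor `U ↦ {x | down x ∈ U}`. -/
def up : Opens T ⥤ Opens (uT T) where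
  obj U := ⟨{x | ULift.down x ∈ U}, U.2.preimage continuous_uliftDown⟩
  map h := homOfLE (fun _ ht => h.le ht)

lemma mem_dn {V : Opens (uT T)} {t : T} : t ∈ (dn T).obj V ↔ (ULift.up t : ULift.{1} T) ∈ V := Iff.rfl

lemma mem_up {U : Opens T} {x : ULift.{1} T} : x ∈ (up T).obj U ↔ ULift.down x ∈ U := Iff.rfl

/-- The equivalence between the opens. -/
def equiv : Opens (uT T) ≌ Opens T where
  functor := dn T
  inverse := up T
  unitIso := NatIso.ofComponents (fun _ => Iso.refl _) (fun _ => Subsingleton.elim _ _)
  counitIso := NatIso.ofComponents (fun _ => Iso.refl _) (fun _ => Subsingleton.elim _ _)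
  functor_unitIso_comp _ := Subsingleton.elim _ _

instance : (dn T).IsEquivalence := (equiv T).isEquivalence_functor
instance : (up T).IsEquivalence := (equiv T).isEquivalence_inverse

theorem coverPreserving_dn :
    CoverPreserving (Opens.grothendieckTopology (uT T)) (Opens.grothendieckTopology T) (dn T) where
  cover_preserve {V S} hS := by
    intro t ht
    obtain ⟨W, h, hSW, hW⟩ := hS (ULift.up t) ht
    exact ⟨(dn T).obj W, (dn T).map h, Sieve.image_mem_functorPushforward _ _ hSW, hW⟩

theorem coverPreserving_up :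
    CoverPreserving (Opens.grothendieckTopology T) (Opens.grothendieckTopology (uT T)) (up T) where
  cover_preserve {V S} hS := by
    intro t ht
    obtain ⟨W, h, hSW, hW⟩ := hS (ULift.down t) ht
    exact ⟨(up T).obj W, (up T).map h, Sieve.image_mem_functorPushforward _ _ hSW, hW⟩

instance isContinuous_dn :
    (dn T).IsContinuous (Opens.grothendieckTopology (uT T)) (Opens.grothendieckTopology T) :=
  have : RepresentablyFlat (dn T) := flat_of_preservesFiniteLimits _
  Functor.isContinuous_of_coverPreserving (compatiblePreservingOfFlat _ _) (coverPreserving_dn T)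

instance isContinuous_up :
    (up T).IsContinuous (Opens.grothendieckTopology T) (Opens.grothendieckTopology (uT T)) :=
  have : RepresentablyFlat (up T) := flat_of_preservesFiniteLimits _
  Functor.isContinuous_of_coverPreserving (compatiblePreservingOfFlat _ _) (coverPreserving_up T)

/-- Sheaves on `T` as sheaves on `uT T`. -/
def liftAb : AbTop T ⥤ CohTop.Ab (uT T) :=
  (dn T).sheafPushforwardContinuous AddCommGrpCat.{1} (Opens.grothendieckTopology (uT T))
    (Opens.grothendieckTopology T)

/-- Sheaves on `uT T` as sheaves on `T`. -/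
def lowerAb : CohTop.Ab (uT T) ⥤ AbTop T :=
  (up T).sheafPushforwardContinuous AddCommGrpCat.{1} (Opens.grothendieckTopology T)
    (Opens.grothendieckTopology (uT T))

instance isEquivalence_liftAb : (liftAb T).IsEquivalence := by
  have e1 : liftAb T ⋙ lowerAb T ≅ 𝟭 _ :=
    Functor.sheafPushforwardContinuousComp' (F := up T) (G := dn T) (FG := 𝟭 _)
      (equiv T).counitIso _ _ _ _ ≪≫ Functor.sheafPushforwardContinuousId _ _
  have e2 : lowerAb T ⋙ liftAb T ≅ 𝟭 _ :=
    Functor.sheafPushforwardContinuousComp' (F := dn T) (G := up T) (FG := 𝟭 _)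
      (equiv T).unitIso.symm _ _ _ _ ≪≫ Functor.sheafPushforwardContinuousId _ _
  exact (CategoryTheory.Equivalence.mk (liftAb T) (lowerAb T) e1.symm e2).isEquivalence_functor

/-- Opens of `uT T` as objects of the classical site. -/
def uToCl : Opens (uT T) ⥤ Cl T := dn T ⋙ opensToCl T

instance isContinuous_opensToCl :
    (opensToCl T).IsContinuous (Opens.grothendieckTopology T) (Cl.topology T) :=
  Groth.Agent.S4211.result T

instance isContinuous_uToCl :
    (uToCl T).IsContinuous (Opens.grothendieckTopology (uT T)) (Cl.topology T) :=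
  Functor.isContinuous_comp (dn T) (opensToCl T) _ (Opens.grothendieckTopology T) _

/-- Restriction of a sheaf on the classical site to the opens of `uT T`. -/
def resU : Cl.Ab T ⥤ CohTop.Ab (uT T) :=
  (uToCl T).sheafPushforwardContinuous AddCommGrpCat.{1} (Opens.grothendieckTopology (uT T))
    (Cl.topology T)

/-- `resU` is the composite of the restriction to opens and the change of universe. -/
def resUIso : resOpens T ⋙ liftAb T ≅ resU T := Iso.refl _

instance isEquivalence_resU : (resU T).IsEquivalence := by
  have : (resOpens T).IsEquivalence := Groth.Agent.S4212.result T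
  exact Functor.isEquivalence_of_iso (resUIso T)

end Space

section Map

variable {T T' : Type} [TopologicalSpace T] [TopologicalSpace T'] (f : C(T, T'))

/-- A continuous map one universe up. -/
def uMap : uT T ⟶ uT T' := TopCat.ofHom ⟨ULift.map f,
  continuous_uliftUp.comp (f.continuous.comp continuous_uliftDown)⟩

lemma uMap_apply (x : uT T) : uMap f x = ULift.up (f x.down) := rfl

/-- Direct image on classical sites. -/
abbrev pushCl : Cl.Ab T ⥤ Cl.Ab T' :=
  (clBC f).sheafPushforwardContinuous AddCommGrpCat.{1} (Cl.topology T') (Cl.topology T)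

/-- Inverse image on classical sites. -/
abbrev pullCl : Cl.Ab T' ⥤ Cl.Ab T :=
  (clBC f).sheafPullback AddCommGrpCat.{1} (Cl.topology T') (Cl.topology T)

/-- The adjunction between inverse and direct image. -/
abbrev adjCl : pullCl f ⊣ pushCl f :=
  (clBC f).sheafAdjunctionContinuous AddCommGrpCat.{1} (Cl.topology T') (Cl.topology T)

instance isContinuous_map :
    (Opens.map (uMap f)).IsContinuous (Opens.grothendieckTopology (uT T'))
      (Opens.grothendieckTopology (uT T)) :=
  Functor.isContinuous_of_coverPreserving (compatiblePreserving_opens_map (uMap f))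
    (coverPreserving_opens_map (uMap f))

lemma uToClBC_mem (V : Opens (uT T')) (q : (bcObj f ((uToCl T').obj V)).E) :
    (ULift.up q.1.1 : ULift.{1} T) ∈ (Opens.map (uMap f)).obj V := by
  have h : f q.1.1 = q.1.2.1 := q.2
  change (ULift.up (f q.1.1) : ULift.{1} T') ∈ V
  rw [h]
  exact q.1.2.2

/-- The map `T ×_{T'} V ⟶ f⁻¹ V`. -/
def uToClBCHom (V : Opens (uT T')) :
    (clBC f).obj ((uToCl T').obj V) ⟶ (uToCl T).obj ((Opens.map (uMap f)).obj V) :=
  ⟨fun q => ⟨q.1.1, uToClBC_mem f V q⟩,
    (continuous_fst.comp continuous_subtype_val).subtype_mk _, fun _ => rfl⟩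

/-- The map `f⁻¹ V ⟶ T ×_{T'} V`. -/
def uToClBCInv (V : Opens (uT T')) :
    (uToCl T).obj ((Opens.map (uMap f)).obj V) ⟶ (clBC f).obj ((uToCl T').obj V) :=
  ⟨fun t => ⟨(t.1, ⟨f t.1, t.2⟩), rfl⟩,
        Continuous.subtype_mk (continuous_subtype_val.prodMk
          ((f.continuous.comp continuous_subtype_val).subtype_mk _)) _, fun _ => rfl⟩

/-- The comparison `f⁻¹ V ≅ T ×_{T'} V`. -/
def uToClBC : uToCl T' ⋙ clBC f ≅ Opens.map (uMap f) ⋙ uToCl T :=
  NatIso.ofComponents (fun V =>
    { hom := uToClBCHom f V
      inv := uToClBCInv f V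
      hom_inv_id := An.Cl.hom_ext (funext fun q => Subtype.ext (Prod.ext rfl (Subtype.ext q.2)))
      inv_hom_id := rfl })
    (fun _ => rfl)

/-- `resU` commutes with direct images. -/
def resUPush : pushCl f ⋙ resU T' ≅ resU T ⋙ CohTop.push (uMap f) :=
  sqPush (F := uToCl T') (H := clBC f) (K := Opens.map (uMap f)) (G := uToCl T) (uToClBC f)
    AddCommGrpCat.{1} (Opens.grothendieckTopology (uT T')) (Cl.topology T')
    (Opens.grothendieckTopology (uT T)) (Cl.topology T)

end Map

end Groth.Agent.An.H890.ULiftSite
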