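import Groth.Agent.Localalg.DeltaFun
import Groth.Agent.Sga4B.DeltaH

/-!
# Natural comparison of higher derived functors from a degree zero base change transformation

* `nonempty_natIso` : `P.ι ⋙ R^q A₁ ⋙ G ≅ P.ι ⋙ H ⋙ R^q A₂`.
-/

set_option autoImplicit false
universe v₁ v₂ v₃ v₄ u₁ u₂ u₃ u₄

open CategoryTheory CategoryTheory.Limits

namespace Groth.Agent.An.H890.Compare

open Groth.Agent.Localalg.DeltaFun Groth.Agent.Sga4B.DeltaH

variable {𝒳' : Type u₁} [Category.{v₁} 𝒳'] [Abelian 𝒳'] [EnoughInjectives 𝒳']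
  {𝒴' : Type u₂} [Category.{v₂} 𝒴'] [Abelian 𝒴']
  {𝒳 : Type u₃} [Category.{v₃} 𝒳] [Abelian 𝒳] [EnoughInjectives 𝒳]
  {𝒴 : Type u₄} [Category.{v₄} 𝒴] [Abelian 𝒴]
  (A₁ : 𝒳' ⥤ 𝒴') [A₁.Additive] [PreservesFiniteLimits A₁]
  (G : 𝒴' ⥤ 𝒴) [G.Additive] [PreservesFiniteLimits G] [PreservesFiniteColimits G]
  (H : 𝒳' ⥤ 𝒳) [H.Additive] [PreservesFiniteLimits H] [PreservesFiniteColimits H]
  (A₂ : 𝒳 ⥤ 𝒴) [A₂.Additive] [PreservesFiniteLimits A₂]
  (e : A₁ ⋙ G ⟶ H ⋙ A₂)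

include e in
/-- Comparison of derived functors, natural on a class of objects. -/
theorem nonempty_natIso (P : ObjectProperty 𝒳')
    (hP : ∀ {F F' : 𝒳'} (p : F ⟶ F') [Epi p], P F → P F')
    (he : ∀ F, P F → IsIso (e.app F))
    (hI : ∀ F, P F → ∃ (I : 𝒳') (i : F ⟶ I), Mono i ∧ P I ∧
      ∀ q, 0 < q → IsZero ((A₁.rightDerived q).obj I) ∧ IsZero ((A₂.rightDerived q).obj (H.obj I)))
    (q : ℕ) : Nonempty (P.ι ⋙ A₁.rightDerived q ⋙ G ≅ P.ι ⋙ H ⋙ A₂.rightDerived q) := by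
  let T : DeltaFunctor 𝒳' 𝒴 := (ofRightDerived A₁).postcomp G
  let T' : DeltaFunctor 𝒳' 𝒴 := (ofRightDerived A₂).precomp H
  have hT : T.Effaceable := fun J _ n => G.map_isZero (ofRightDerived_effaceable A₁ J n)
  let φ : T.T 0 ⟶ T'.T 0 := Functor.whiskerRight A₁.rightDerivedZeroIsoSelf.hom G ≫ e ≫
    Functor.whiskerLeft H A₂.rightDerivedZeroIsoSelf.inv
  obtain ⟨Φ, hΦ⟩ := exists_deltaHom T T' hT φ
  have h0 : ∀ F, P F → IsIso ((Φ.app 0).app F) := by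
    intro F hF
    have := he F hF
    rw [hΦ]
    change IsIso (G.map (A₁.rightDerivedZeroIsoSelf.hom.app F) ≫ e.app F ≫
      A₂.rightDerivedZeroIsoSelf.inv.app (H.obj F))
    infer_instance
  have key : ∀ F, P F → IsIso ((Φ.app q).app F) :=
    isIso_of_class Φ P hP h0 (fun F hF => by
      obtain ⟨I, i, hi, hPI, hac⟩ := hI F hF
      exact ⟨I, i, hi, hPI, fun n => ⟨G.map_isZero (hac (n + 1) (Nat.succ_pos n)).1,
        (hac (n + 1) (Nat.succ_pos n)).2⟩⟩) q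
  exact ⟨NatIso.ofComponents (fun F => @asIso _ _ _ _ ((Φ.app q).app F.obj) (key F.obj F.property))
    (fun {F F'} g => (Φ.app q).naturality (P.ι.map g))⟩

end Groth.Agent.An.H890.Compare
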