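import Groth.Agent.An.H890.EpsBC
import Groth.Agent.An.H890.ULiftSite
import Groth.Agent.EtpbcB.BCCrit

/-!
# The comparison maps `θ_f : (f_* F)^an ⟶ f(ℂ)_* F^an` and the cube of a commutative square

* `etTheta w : push g' ⋙ push f ≅ push f' ⋙ push g`, `baseChange0_eq`;
* `clTheta w : pushCl g' ⋙ pushCl f ≅ pushCl f' ⋙ pushCl g`;
* `gamma f : epsPush X ⋙ push f ≅ pushCl (mapC f) ⋙ epsPush S`, `theta f`;
* `cube_compat`: compatibility of these isomorphisms for a commutative square of schemes.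
-/

set_option autoImplicit false
open CategoryTheory CategoryTheory.Limits AlgebraicGeometry Opposite TopologicalSpace Topology
open Groth.Agent.An.H884.ClBC Groth.Agent.An.H883.EpsLim
open Groth.Agent.An.H890.EpsBC Groth.Agent.An.H890.SqPush Groth.Agent.An.H890.ULiftSite
open Groth.Agent.An.H890.Mates

noncomputable section

namespace Groth.Agent.An.H890.Theta

section Et

universe u
variable {X Y X' Y' : Scheme.{u}} {f : X ⟶ Y} {g : Y' ⟶ Y} {f' : X' ⟶ Y'} {g' : X' ⟶ X}
  (w : g' ≫ f = f' ≫ g)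

/-- Direct images along a commutative square of schemes. -/
def etTheta : EtCoh.push g' ⋙ EtCoh.push f ≅ EtCoh.push f' ⋙ EtCoh.push g :=
  sqPush (F := EtCoh.bc f) (H := EtCoh.bc g') (K := EtCoh.bc g) (G := EtCoh.bc f')
    (Groth.Agent.EtpbcB.BCCrit.thetaNat f g f' g' w).symm AddCommGrpCat.{u + 1}
    Y.smallEtaleTopology X.smallEtaleTopology Y'.smallEtaleTopology X'.smallEtaleTopology

theorem etTheta_hom_eq (G : EtCoh.Ab X') : (etTheta w).hom.app G =
    (EtCoh.pushComp f g').hom.app G ≫ (EtCoh.pushCongr w).hom.app G ≫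
      (EtCoh.pushComp g f').inv.app G := by
  apply Sheaf.hom_ext
  ext V : 2
  simp [etTheta, Groth.Agent.EtpbcB.BCCrit.thetaNat, EtCoh.pushComp, EtCoh.pushCongr]
  rfl

/-- The base change map of the prelude is the base change transformation of `etTheta`. -/
theorem baseChange0_eq (F : EtCoh.Ab X) : EtCoh.baseChange0 f g f' g' w F =
    (bcOf (EtCoh.pullPushAdj g') (EtCoh.pullPushAdj g) (etTheta w).hom).app F := by
  apply eq_bcOf_app
  rw [Groth.Agent.EtpbcB.BCCrit.unit_baseChange0, etTheta_hom_eq]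

end Et

section ClSq

variable {A B A' B' : Type} [TopologicalSpace A] [TopologicalSpace B] [TopologicalSpace A']
  [TopologicalSpace B'] {f : C(A, B)} {g : C(B', B)} {f' : C(A', B')} {g' : C(A', A)}
  (w : f.comp g' = g.comp f')

include w in
lemma clSq_w (x : A') : f (g' x) = g (f' x) := DFunLike.congr_fun w x

include w in
lemma clSq_mem (E : An.Cl B) (q : (bcObj g' (bcObj f E)).E) :
    g (f' q.1.1) = E.p q.1.2.1.2 := by
  rw [← clSq_w w, ← q.1.2.2]; exact congrArg f q.2

/-- `A' ×_A (A ×_B E) ⟶ A' ×_{B'} (B' ×_B E)`. -/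
def clSqHom (E : An.Cl B) : (clBC g').obj ((clBC f).obj E) ⟶ (clBC f').obj ((clBC g).obj E) where
  toFun q := ⟨(q.1.1, ⟨(f' q.1.1, q.1.2.1.2), clSq_mem w E q⟩), rfl⟩
  continuous := Continuous.subtype_mk ((continuous_fst.comp continuous_subtype_val).prodMk
    (Continuous.subtype_mk ((f'.continuous.comp (continuous_fst.comp continuous_subtype_val)).prodMk
      (continuous_snd.comp (continuous_subtype_val.comp (continuous_snd.comp
        continuous_subtype_val)))) _)) _
  over _ := rfl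

/-- The base change functors of a commutative square. -/
def clSq : clBC f ⋙ clBC g' ≅ clBC g ⋙ clBC f' :=
  NatIso.ofComponents (fun E =>
    { hom := clSqHom w E
      inv := clSqHom w.symm E
      hom_inv_id := An.Cl.hom_ext (funext fun q => Subtype.ext (Prod.ext rfl (Subtype.ext
        (Prod.ext q.2 rfl))))
      inv_hom_id := An.Cl.hom_ext (funext fun q => Subtype.ext (Prod.ext rfl (Subtype.ext
        (Prod.ext q.2 rfl)))) })
    (fun _ => rfl)

/-- Direct images along a commutative square of spaces. -/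
def clTheta : pushCl g' ⋙ pushCl f ≅ pushCl f' ⋙ pushCl g :=
  sqPush (F := clBC f) (H := clBC g') (K := clBC g) (G := clBC f')
    (clSq w) AddCommGrpCat.{1} (An.Cl.topology B) (An.Cl.topology A) (An.Cl.topology B')
    (An.Cl.topology A')

end ClSq

section Gamma

variable {X S : Scheme.{0}} [X.Over An.SC] [S.Over An.SC] (f : X ⟶ S) [f.IsOver An.SC]
  [LocallyOfFiniteType (X ↘ An.SC)] [LocallyOfFiniteType (S ↘ An.SC)] [Fact An.EtaleLH]
  [An.EpsCont X] [An.EpsCont S]

/-- `ε_*` commutes with direct images. -/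
def gamma : An.epsPush X ⋙ EtCoh.push f ≅ pushCl (An.Pts.mapC f) ⋙ An.epsPush S :=
  sqPush (F := EtCoh.bc f) (H := An.eps X) (K := An.eps S) (G := clBC (An.Pts.mapC f))
    (epsBC f) AddCommGrpCat.{1} S.smallEtaleTopology X.smallEtaleTopology
    (An.Cl.topology (An.Pts S)) (An.Cl.topology (An.Pts X))

/-- The comparison map `θ_f : ε^* f_* ⟶ f(ℂ)_* ε^*`. -/
def theta : EtCoh.push f ⋙ An.epsPull S ⟶ An.epsPull X ⋙ pushCl (An.Pts.mapC f) :=
  bcOf (An.epsAdj X) (An.epsAdj S) (gamma f).hom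

/-- `ε^*` commutes with inverse images. -/
def pullEps : EtCoh.pull f ⋙ An.epsPull X ≅ An.epsPull S ⋙ pullCl (An.Pts.mapC f) :=
  leftIso ((EtCoh.pullPushAdj f).comp (An.epsAdj X)) ((An.epsAdj S).comp (adjCl (An.Pts.mapC f)))
    (gamma f)

end Gamma

section Cube

variable {X S X' S' : Scheme.{0}} [X.Over An.SC] [S.Over An.SC] [X'.Over An.SC] [S'.Over An.SC]
  {f : X ⟶ S} {g : S' ⟶ S} {f' : X' ⟶ S'} {g' : X' ⟶ X} (w : g' ≫ f = f' ≫ g)
  [f.IsOver An.SC] [g.IsOver An.SC] [f'.IsOver An.SC] [g'.IsOver An.SC]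
  [LocallyOfFiniteType (X ↘ An.SC)] [LocallyOfFiniteType (S ↘ An.SC)]
  [LocallyOfFiniteType (X' ↘ An.SC)] [LocallyOfFiniteType (S' ↘ An.SC)] [Fact An.EtaleLH]
  [An.EpsCont X] [An.EpsCont S] [An.EpsCont X'] [An.EpsCont S']

include w in
omit [LocallyOfFiniteType (X ↘ An.SC)] [LocallyOfFiniteType (S ↘ An.SC)]
  [LocallyOfFiniteType (X' ↘ An.SC)] [LocallyOfFiniteType (S' ↘ An.SC)] [Fact An.EtaleLH] in
lemma mapC_w : (An.Pts.mapC f).comp (An.Pts.mapC g') = (An.Pts.mapC g).comp (An.Pts.mapC f') := by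
  ext z
  apply Subtype.ext
  change (z.1 ≫ g') ≫ f = (z.1 ≫ f') ≫ g
  rw [Category.assoc, Category.assoc, w]

/-- Compatibility of the geometric comparison maps. -/
lemma cube_geom (V : S.Etale) :
    ofCl f' ((EtCoh.bc g).obj V) ≫
      (An.eps X').map (Groth.Agent.EtpbcB.BCCrit.theta f g f' g' w V).hom ≫
        toCl g' ((EtCoh.bc f).obj V) =
    (clBC (An.Pts.mapC f')).map (toCl g V) ≫ (clSq (mapC_w w)).inv.app ((An.eps S).obj V) ≫
      (clBC (An.Pts.mapC g')).map (ofCl f V) := by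
  refine An.Cl.hom_ext (funext fun q => Subtype.ext (Prod.ext ?_ (Subtype.ext ?_)))
  · apply Subtype.ext
    change (((ofCl f' ((EtCoh.bc g).obj V)).toFun q).1 ≫
      (Groth.Agent.EtpbcB.BCCrit.theta f g f' g' w V).hom.left) ≫
        (((EtCoh.bc g').obj ((EtCoh.bc f).obj V)).left ↘ X') = q.1.1.1
    rw [Category.assoc, left_over, ofCl_val_snd]
  · refine (isPullback_bc f V).hom_ext ?_ ?_
    · change ((((ofCl f' ((EtCoh.bc g).obj V)).toFun q).1 ≫
        (Groth.Agent.EtpbcB.BCCrit.theta f g f' g' w V).hom.left) ≫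
          bcFst g' ((EtCoh.bc f).obj V)) ≫ bcFst f V =
          ((ofCl f V).toFun _).1 ≫ bcFst f V
      rw [ofCl_val_fst]
      have h := Groth.Agent.EtpbcB.BCCrit.theta_hom_left_fst f g f' g' w V
      have h' := ofCl_val_fst f' ((EtCoh.bc g).obj V) q
      change _ = q.1.2.1 ≫ bcFst g V
      rw [← h', Category.assoc, Category.assoc, Category.assoc]
      exact congrArg _ h
    · change ((((ofCl f' ((EtCoh.bc g).obj V)).toFun q).1 ≫
        (Groth.Agent.EtpbcB.BCCrit.theta f g f' g' w V).hom.left) ≫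
          bcFst g' ((EtCoh.bc f).obj V)) ≫ (((EtCoh.bc f).obj V).left ↘ X) =
          ((ofCl f V).toFun _).1 ≫ (((EtCoh.bc f).obj V).left ↘ X)
      rw [ofCl_val_snd]
      have h' := ofCl_val_snd f' ((EtCoh.bc g).obj V) q
      change _ = q.1.1.1 ≫ g'
      rw [← h', Category.assoc, Category.assoc, Category.assoc, (isPullback_bc g' _).w,
        reassoc_of% (left_over (Groth.Agent.EtpbcB.BCCrit.theta f g f' g' w V).hom)]

/-- Compatibility of the comparison isomorphisms for a commutative square of schemes: the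
hypothesis of the cube lemma. -/
theorem cube_compat (d : An.Cl.Ab (An.Pts X')) :
    (EtCoh.push f).map ((gamma g').symm.hom.app d) ≫ (etTheta w).hom.app ((An.epsPush X').obj d) ≫
      (EtCoh.push g).map ((gamma f').hom.app d) =
    ((gamma f).hom.app ((pushCl (An.Pts.mapC g')).obj d) ≫
      (An.epsPush S).map ((clTheta (mapC_w w)).hom.app d)) ≫
        (gamma g).symm.hom.app ((pushCl (An.Pts.mapC f')).obj d) := by
  apply Sheaf.hom_ext
  ext V : 2
  have h := congrArg (fun t => d.obj.map t.op) (cube_geom w V.unop)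
  simp only [op_comp, Functor.map_comp, Category.assoc] at h
  change d.obj.map _ ≫ d.obj.map _ ≫ d.obj.map _ = (d.obj.map _ ≫ d.obj.map _) ≫ d.obj.map _
  rw [Category.assoc]
  exact h

end Cube

end Groth.Agent.An.H890.Theta
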