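import Groth.Agent.An.H862.FinTop
import Groth.Agent.An.H890.Conserv
import Groth.Agent.An.H890.PtsPB
import Groth.Agent.CohtopA.ProperBCHigher

/-!
# Higher direct images on classical sites: proper base change

* `isPullback_of_isPB`;
* `nonempty_resU_Rpush`: `resU (R^q pushCl f F) ≅ R^q (CohTop.push (uMap f)) (resU F)`;
* `nonempty_clPBC`: `g^* R^q f_* F ≅ R^q f'_* g'^* F` for a cartesian square of spaces with `f` proper
  and separated;
* `isZero_of_pullCl`.
-/

set_option autoImplicit false
open CategoryTheory CategoryTheory.Limits AlgebraicGeometry Opposite TopologicalSpace Topology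
open Groth.Agent.An.H884.ClBC Groth.Agent.An.H883.EpsLim
open Groth.Agent.An.H890.SqPush Groth.Agent.An.H890.ULiftSite
open Groth.Agent.An.H890.Mates Groth.Agent.An.H890.Theta Groth.Agent.An.H890.TopBC
open Groth.Agent.An.H890.Conserv Groth.Agent.An.H890.PtsPB
open Groth.Agent.CohtopB Groth.Agent.CohtopA Groth.Agent.CohtopA.PBSquare Filter

noncomputable section

namespace Groth.Agent.An.H890.ClDer

section PB

universe u

theorem isPullback_of_isPB {X' X Y' Y : TopCat.{u}} {g' : X' ⟶ X} {f' : X' ⟶ Y'} {f : X ⟶ Y}
    {g : Y' ⟶ Y} (h : IsPB g' f' f g) : IsPullback g' f' f g where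
  w := by
    ext x
    exact h.comm x
  isLimit' := by
    have hs : ∀ (s : PullbackCone f g) (t : s.pt), f (s.fst t) = g (s.snd t) := fun s t =>
      ConcreteCategory.congr_hom s.condition t
    choose L hL1 hL2 using fun (s : PullbackCone f g) (t : s.pt) => h.surj _ _ (hs s t)
    have hc : ∀ s : PullbackCone f g, Continuous (L s) := by
      intro s
      rw [continuous_iff_continuousAt]
      intro t
      rw [ContinuousAt, h.nhds, tendsto_inf, tendsto_comap_iff, tendsto_comap_iff]
      constructor
      · have e : (g' ∘ L s) = s.fst := funext (hL1 s)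
        rw [e, hL1]
        exact s.fst.hom.continuous.tendsto t
      · have e : (f' ∘ L s) = s.snd := funext (hL2 s)
        rw [e, hL2]
        exact s.snd.hom.continuous.tendsto t
    refine ⟨PullbackCone.IsLimit.mk _ (fun s => TopCat.ofHom ⟨L s, hc s⟩) ?_ ?_ ?_⟩
    · intro s
      ext t
      exact hL1 s t
    · intro s
      ext t
      exact hL2 s t
    · intro s m h1 h2
      ext t
      refine h.inj _ _ ?_ ?_
      · exact (ConcreteCategory.congr_hom h1 t).trans (hL1 s t).symm
      · exact (ConcreteCategory.congr_hom h2 t).trans (hL2 s t).symm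

end PB

section Der

variable {T T' : Type} [TopologicalSpace T] [TopologicalSpace T'] (f : C(T, T'))

theorem nonempty_resU_Rpush (q : ℕ) (F : An.Cl.Ab T) :
    Nonempty ((resU T').obj (((pushCl f).rightDerived q).obj F) ≅
      (CohTop.Rpush (uMap f) q).obj ((resU T).obj F)) := by
  have hadd : (CohTop.push (uMap f)).Additive := CohTop.instAdditiveAbPush _
  have hl : PreservesFiniteLimits (CohTop.push (uMap f)) := by
    have : PreservesLimitsOfSize.{0, 0} (CohTop.push (uMap f)) :=
      (TopPull.adj (uMap f)).rightAdjoint_preservesLimits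
    exact PreservesLimitsOfSize.preservesFiniteLimits _
  obtain ⟨e⟩ := Groth.Agent.An.H890.Compare.nonempty_natIso (pushCl f) (resU T') (resU T)
    (CohTop.push (uMap f)) (resUPush f).hom (fun _ => True) (fun _ _ _ => trivial)
    (fun F _ => inferInstance) (fun F _ => by
      refine ⟨Injective.under F, Injective.ι F, inferInstance, trivial, fun q hq => ?_⟩
      obtain ⟨q, rfl⟩ : ∃ m, q = m + 1 := ⟨q - 1, by omega⟩
      have : Injective ((resU T).obj (Injective.under F)) := by
        have := (resU T).asEquivalence.map_injective_iff (P := Injective.under F)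
        exact this.2 inferInstance
      exact ⟨Functor.isZero_rightDerived_obj_injective_succ _ _ _,
        Functor.isZero_rightDerived_obj_injective_succ _ _ _⟩) q
  exact ⟨e.app ⟨F, trivial⟩⟩

end Der

section PBC

variable {A B A' B' : Type} [TopologicalSpace A] [TopologicalSpace B] [TopologicalSpace A']
  [TopologicalSpace B'] {f : C(A, B)} {g : C(B', B)} {f' : C(A', B')} {g' : C(A', A)}

/-- Proper base change on classical sites. -/
theorem nonempty_clPBC (h : IsPB (uMap g') (uMap f') (uMap f) (uMap g)) (hp : IsProperMap f)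
    (hsep : IsSeparatedMap f) (F : An.Cl.Ab A) (q : ℕ) :
    Nonempty ((pullCl g).obj (((pushCl f).rightDerived q).obj F) ≅
      ((pushCl f').rightDerived q).obj ((pullCl g').obj F)) := by
  have hpu : IsProperMap (uMap f) := by
    have h1 : IsProperMap (ULift.up.{1} : B → ULift.{1} B) := Homeomorph.ulift.symm.isProperMap
    have h2 : IsProperMap (ULift.down.{1} : ULift.{1} A → A) := Homeomorph.ulift.isProperMap
    exact h1.comp (hp.comp h2)
  obtain ⟨e⟩ := ProperBCHigher.nonempty_bc_iso (uMap f) (uMap g) (uMap f') (uMap g')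
    (isPullback_of_isPB h) hpu (by
      intro x x' hxx hne
      obtain ⟨U, V, hU, hV, hxU, hxV, hd⟩ := hsep x.down x'.down (congrArg ULift.down hxx)
        (fun hc => hne (ULift.ext _ _ hc))
      exact ⟨ULift.down ⁻¹' U, ULift.down ⁻¹' V, hU.preimage continuous_uliftDown,
        hV.preimage continuous_uliftDown, hxU, hxV, hd.preimage _⟩) ((resU A).obj F) q
  obtain ⟨e1⟩ := nonempty_resU_Rpush f q F
  obtain ⟨e2⟩ := nonempty_resU_Rpush f' q ((pullCl g').obj F)
  refine ⟨(resU B').preimageIso ?_⟩
  exact (pullU g).app _ ≪≫ (CohTop.pull (uMap g)).mapIso e1 ≪≫ e ≪≫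
    (CohTop.Rpush (uMap f') q).mapIso ((pullU g').app F).symm ≪≫ e2.symm

end PBC

/-- Vanishing is detected by a jointly surjective family of inverse images. -/
theorem isZero_of_pullCl {T : Type} [TopologicalSpace T] {ι : Type*} {P : ι → Type}
    [∀ i, TopologicalSpace (P i)] (g : ∀ i, C(P i, T)) (hg : ∀ t : T, ∃ (i : ι) (p : P i), g i p = t)
    (F : An.Cl.Ab T) (hF : ∀ i, IsZero ((pullCl (g i)).obj F)) : IsZero F := by
  have h : IsIso (0 : F ⟶ F) := isIso_of_pullCl g hg 0 (fun i => by
    have h1 := hF i
    exact ⟨0, h1.eq_of_src _ _, h1.eq_of_src _ _⟩)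
  rw [IsZero.iff_id_eq_zero]
  have h2 := IsIso.hom_inv_id (0 : F ⟶ F)
  rw [zero_comp] at h2
  exact h2.symm

end Groth.Agent.An.H890.ClDer
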