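import Mathlib.AlgebraicGeometry.Group.Affine
import Groth.Agent.An.H890.ClDer
import Groth.Agent.An.H890.FibreRed
import Groth.Agent.An.H882.FinPush
import Groth.Agent.An.H879.FiniteClosed
import Groth.Agent.Etcore.NormalAcyclic
import Groth.Agent.Sga4B.TorsionStalks
import Groth.Agent.EtpbcB.ChowTower
import Groth.Agent.EtpbcB.SurjFaithful
import Groth.Agent.EtpbcB.BCComp
import Groth.Agent.S0001
import Groth.Agent.S4210

/-!
# Acyclicity of `ε^* I` for `f(ℂ)_*`, `I` an `ℓ`-injective étale sheaf: dévissage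

* `DegZero`: the degree zero comparison for proper schemes over `ℂ`;
* `Acy f`: for `I` killed by a prime `ℓ` and `ℓ`-injective, `ε^* I` is acyclic for `f(ℂ)_*`;
* `nonempty_comp`: comparison of higher direct images of sheaves killed by `ℓ` from `Acy f`;
* `acy_of_isFinite`, `acy_comp`, `acy_of_surjective`, `isZero_pullCl_of_acy` (base change),
  `acy_of_fibres`.
-/

set_option autoImplicit false
attribute [-instance] AlgebraicGeometry.specOverSpec
open CategoryTheory CategoryTheory.Limits AlgebraicGeometry Opposite TopologicalSpace Topology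
open Groth.Agent.An.H884.ClBC
open Groth.Agent.An.H890.ULiftSite Groth.Agent.An.H890.PtsPB Groth.Agent.An.H890.PtCl
open Groth.Agent.An.H890.Mates Groth.Agent.An.H890.Theta Groth.Agent.An.H890.EtaLoc
open Groth.Agent.An.H890.FibreRed Groth.Agent.An.H890.ClDer Groth.Agent.An.H890.Conserv
open Groth.Agent.An.H885.ClPoint Groth.Agent.An.H885.EpsGerm
open Groth.Agent.EtpbcB.NKill Groth.Agent.EtpbcB.Acyc

noncomputable section

namespace Groth.Agent.An.H890.Acy

variable [Fact An.EtaleLH]

/-- The degree zero comparison for proper schemes over `ℂ`. -/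
def DegZero : Prop :=
  ∀ (Z : Scheme.{0}) [Z.Over An.SC] [LocallyOfFiniteType (Z ↘ An.SC)] [IsProper (Z ↘ An.SC)]
    [An.EpsCont Z] (F : EtCoh.Ab Z), EtCoh.IsTorsion F →
      Function.Bijective (eta Z F (EtCoh.top Z))

section basic

variable {X S : Scheme.{0}} [X.Over An.SC] [S.Over An.SC] (f : X ⟶ S) [f.IsOver An.SC]
  [LocallyOfFiniteType (X ↘ An.SC)] [LocallyOfFiniteType (S ↘ An.SC)]
  [An.EpsCont X] [An.EpsCont S]

/-- `ℓ`-injective sheaves are acyclic for the direct image on complex points. -/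
def Acy : Prop :=
  ∀ (l : ℕ), l.Prime → ∀ I : EtCoh.Ab X, EtCoh.KilledBy l I → NInj l I →
    Acyclic (pushCl (An.Pts.mapC f)) ((An.epsPull X).obj I)

/-- Degree zero for torsion sheaves and proper morphisms. -/
theorem isIso_theta_of_degZero (h0 : DegZero) [IsProper f] (F : EtCoh.Ab X)
    (hF : EtCoh.IsTorsion F) : IsIso ((theta f).app F) :=
  isIso_theta_of_fibres f F fun s => h0 (fib f s) _
    (Sga4B.TorsionStalks.isTorsion_pull (fibι f s) hF)

instance epsPull_lim : PreservesFiniteLimits (An.epsPull X) :=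
  Groth.Agent.S4210.result X

/-- Comparison of higher direct images of sheaves killed by a prime. -/
theorem nonempty_comp (h0 : DegZero) [IsProper f] (hA : Acy f) {l : ℕ} (hl : l.Prime)
    (F : EtCoh.Ab X) (hF : EtCoh.KilledBy l F) (q : ℕ) :
    Nonempty ((An.epsPull S).obj ((EtCoh.Rpush f q).obj F) ≅
      ((pushCl (An.Pts.mapC f)).rightDerived q).obj ((An.epsPull X).obj F)) := by
  obtain ⟨e⟩ := Groth.Agent.An.H890.Compare.nonempty_natIso (EtCoh.push f) (An.epsPull S)
    (An.epsPull X) (pushCl (An.Pts.mapC f)) (theta f) (fun F => EtCoh.KilledBy l F)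
    (fun {F F'} p _ h => (EtpbcB.NKillEt.killedBy_iff l F').2
      (killed_of_epi p ((EtpbcB.NKillEt.killedBy_iff l F).1 h)))
    (fun F hF => isIso_theta_of_degZero f h0 F
      (EtpbcB.TorsEt.isTorsion_of_killedBy hl.pos F hF))
    (fun F hF => by
      obtain ⟨J, hJ, i, hi⟩ := exists_mono_tor ((EtpbcB.NKillEt.killedBy_iff l F).1 hF)
      have hk := (EtpbcB.NKillEt.killedBy_iff l _).2 (killed_tor l J)
      exact ⟨tor l J, i, hi, hk, fun q hq => ⟨EtpbcB.NKillEt.acyclic_push_tor f J hl.pos q hq,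
        hA l hl _ hk (nInj_tor l J) q hq⟩⟩) q
  exact ⟨e.app ⟨F, hF⟩⟩

/-- The direct image along a finite morphism is exact on classical sites. -/
theorem preservesFiniteColimits_pushCl_of_isFinite [IsFinite f] :
    PreservesFiniteColimits (pushCl (An.Pts.mapC f)) :=
  H882.FinPush.preservesFiniteColimits_push (An.Pts.mapC f)
    (H875.ProperMap.isProperMap_map f).isClosedMap
    ((Groth.Agent.S4195.result X S f).1 inferInstance)
    (H879.FiniteClosed.finite_fibre_of_isFinite f)

theorem acyclic_of_isFinite [IsFinite f] (G : An.Cl.Ab (An.Pts X)) :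
    Acyclic (pushCl (An.Pts.mapC f)) G := by
  intro q hq
  obtain ⟨q, rfl⟩ : ∃ m, q = m + 1 := ⟨q - 1, by omega⟩
  have := preservesFiniteColimits_pushCl_of_isFinite f
  exact Etcore.NormalAcyclic.isZero_rightDerived_of_exact _ _ _

theorem acy_of_isFinite [IsFinite f] : Acy f := fun _ _ _ _ _ => acyclic_of_isFinite f _

end basic

section clComp

variable {A B C : Type} [TopologicalSpace A] [TopologicalSpace B] [TopologicalSpace C]
  (f : C(A, B)) (g : C(B, C))

lemma clCompHom_mem (E : An.Cl C) (q : (bcObj f (bcObj g E)).E) :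
    (g.comp f) q.1.1 = E.p q.1.2.1.2 := by
  rw [← q.1.2.2, ContinuousMap.comp_apply]
  exact congrArg g q.2

/-- `A ×_B (B ×_C E) ⟶ A ×_C E`. -/
def clCompHom (E : An.Cl C) : (clBC f).obj ((clBC g).obj E) ⟶ (clBC (g.comp f)).obj E where
  toFun q := ⟨(q.1.1, q.1.2.1.2), clCompHom_mem f g E q⟩
  continuous := Continuous.subtype_mk ((continuous_fst.comp continuous_subtype_val).prodMk
    (continuous_snd.comp (continuous_subtype_val.comp (continuous_snd.comp
        continuous_subtype_val)))) _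
  «over» _ := rfl

/-- `A ×_C E ⟶ A ×_B (B ×_C E)`. -/
def clCompInv (E : An.Cl C) : (clBC (g.comp f)).obj E ⟶ (clBC f).obj ((clBC g).obj E) where
  toFun q := ⟨(q.1.1, ⟨(f q.1.1, q.1.2), q.2⟩), rfl⟩
  continuous := Continuous.subtype_mk ((continuous_fst.comp continuous_subtype_val).prodMk
    (Continuous.subtype_mk ((f.continuous.comp (continuous_fst.comp continuous_subtype_val)).prodMk
      (continuous_snd.comp continuous_subtype_val)) _)) _
  «over» _ := rfl

/-- Base change functors compose. -/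
def clComp : clBC g ⋙ clBC f ≅ clBC (g.comp f) :=
  NatIso.ofComponents (fun E =>
    { hom := clCompHom f g E
      inv := clCompInv f g E
      hom_inv_id := An.Cl.hom_ext (funext fun q => Subtype.ext (Prod.ext rfl (Subtype.ext
        (Prod.ext q.2 rfl))))
      inv_hom_id := rfl })
    (fun _ => rfl)

theorem acyclic_congr {u v : C(A, B)} (h : u = v) (K : An.Cl.Ab A) (hK : Acyclic (pushCl u) K) :
    Acyclic (pushCl v) K := by
  subst h
  exact hK

/-- Direct images compose. -/
def pushClComp : pushCl f ⋙ pushCl g ≅ pushCl (g.comp f) :=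
  Functor.sheafPushforwardContinuousComp' (F := clBC g) (G := clBC f) (FG := clBC (g.comp f))
    (clComp f g) AddCommGrpCat.{1} (An.Cl.topology C) (An.Cl.topology B) (An.Cl.topology A)

theorem nonempty_RpushCl_comp (K : An.Cl.Ab A) (hK : Acyclic (pushCl f) K) (q : ℕ) :
    Nonempty (((pushCl g).rightDerived q).obj ((pushCl f).obj K) ≅
      ((pushCl (g.comp f)).rightDerived q).obj K) := by
  obtain ⟨i⟩ := comp_acyclic (pushCl f) (pushCl g)
    (fun I hI => by
      have := injective_pushCl f I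
      exact acyclic_of_injective _ _) K hK q
  exact ⟨i ≪≫ (EtpbcB.BCComp.rightDerivedIso (pushClComp f g) q).app K⟩

theorem acyclic_clComp (K : An.Cl.Ab A) (hK : Acyclic (pushCl f) K)
    (hK' : Acyclic (pushCl g) ((pushCl f).obj K)) : Acyclic (pushCl (g.comp f)) K := fun q hq =>
  (hK' q hq).of_iso (nonempty_RpushCl_comp f g K hK q).some.symm

theorem acyclic_of_clComp (K : An.Cl.Ab A) (hK : Acyclic (pushCl f) K)
    (hK' : Acyclic (pushCl (g.comp f)) K) : Acyclic (pushCl g) ((pushCl f).obj K) := fun q hq =>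
  (hK' q hq).of_iso (nonempty_RpushCl_comp f g K hK q).some

end clComp

section comp

variable {X Y Z : Scheme.{0}} [X.Over An.SC] [Y.Over An.SC] [Z.Over An.SC]
  (f : X ⟶ Y) (g : Y ⟶ Z) [f.IsOver An.SC] [g.IsOver An.SC] [(f ≫ g).IsOver An.SC]

lemma mapC_comp : An.Pts.mapC (f ≫ g) = (An.Pts.mapC g).comp (An.Pts.mapC f) := by
  ext z
  apply Subtype.ext
  change z.1 ≫ f ≫ g = (z.1 ≫ f) ≫ g
  rw [Category.assoc]

variable [LocallyOfFiniteType (X ↘ An.SC)] [LocallyOfFiniteType (Y ↘ An.SC)]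
  [LocallyOfFiniteType (Z ↘ An.SC)] [An.EpsCont X] [An.EpsCont Y] [An.EpsCont Z]

theorem acy_comp (h0 : DegZero) [IsProper f] (hf : Acy f) (hg : Acy g) : Acy (f ≫ g) := by
  intro l hl I hI hN
  refine acyclic_congr (mapC_comp f g).symm _ ?_
  have := isIso_theta_of_degZero f h0 I (EtpbcB.TorsEt.isTorsion_of_killedBy hl.pos I hI)
  refine acyclic_clComp _ _ _ (hf l hl I hI hN) ?_
  exact (hg l hl _ (EtpbcB.NKillEt.killedBy_push f hI) (EtpbcB.NKillEt.nInj_push f hN)).of_iso
    (asIso ((theta f).app I))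

theorem acy_of_surjective (h0 : DegZero) [IsProper f] [Surjective f] (hf : Acy f)
    (hgf : Acy (f ≫ g)) : Acy g := by
  intro l hl I hI hN
  have hK := EtpbcB.NKillEt.killedBy_pull f hI
  obtain ⟨J, hJ, i, hi⟩ := exists_mono_tor ((EtpbcB.NKillEt.killedBy_iff l _).1 hK)
  have hJ1 : EtCoh.KilledBy l (tor l J) := (EtpbcB.NKillEt.killedBy_iff l _).2 (killed_tor l J)
  have hJ2 : NInj l (tor l J) := nInj_tor l J
  have h1 := hf l hl _ hJ1 hJ2
  have h2 := acyclic_congr (mapC_comp f g) _ (hgf l hl _ hJ1 hJ2)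
  have h3 := acyclic_of_clComp _ _ _ h1 h2
  have := isIso_theta_of_degZero f h0 (tor l J)
    (EtpbcB.TorsEt.isTorsion_of_killedBy hl.pos _ hJ1)
  have h4 : Acyclic (pushCl (An.Pts.mapC g))
      ((An.epsPull Y).obj ((EtCoh.push f).obj (tor l J))) :=
    h3.of_iso (asIso ((theta f).app (tor l J))).symm
  have := Groth.Agent.EtpbcB.SurjFaithful.mono_unit f I
  let m : I ⟶ (EtCoh.push f).obj (tor l J) :=
    (EtCoh.pullPushAdj f).unit.app I ≫ (EtCoh.push f).map i
  have hm : Mono m := mono_comp _ _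
  obtain ⟨r, hr⟩ := hN I ((EtpbcB.NKillEt.killedBy_iff l _).1 hI) (𝟙 I) m
    ((EtpbcB.NKillEt.killedBy_iff l _).1 (EtpbcB.NKillEt.killedBy_push f hJ1)) hm
  exact h4.of_retract ((An.epsPull Y).map m) ((An.epsPull Y).map r)
    (((An.epsPull Y).map_comp m r).symm.trans
      ((congrArg (An.epsPull Y).map hr).trans ((An.epsPull Y).map_id I)))

end comp

section BaseChange

variable {X S X' S' : Scheme.{0}} [X.Over An.SC] [S.Over An.SC] [X'.Over An.SC] [S'.Over An.SC]
  {f : X ⟶ S} {g : S' ⟶ S} {f' : X' ⟶ S'} {g' : X' ⟶ X} (h : IsPullback g' f' f g)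
  [f.IsOver An.SC] [g.IsOver An.SC] [f'.IsOver An.SC] [g'.IsOver An.SC]
  [LocallyOfFiniteType (X ↘ An.SC)] [LocallyOfFiniteType (S ↘ An.SC)]
  [LocallyOfFiniteType (X' ↘ An.SC)] [LocallyOfFiniteType (S' ↘ An.SC)]
  [An.EpsCont X] [An.EpsCont S] [An.EpsCont X'] [An.EpsCont S']

include h in
/-- If `Acy` holds after base change along `g` then `g(ℂ)^* R^q f(ℂ)_* ε^* I = 0`. -/
theorem isZero_pullCl_of_acy (h0 : DegZero) [IsProper f] (hA : Acy f') {l : ℕ} (hl : l.Prime)
    (I : EtCoh.Ab X) (hI : EtCoh.KilledBy l I) (hN : NInj l I) (q : ℕ) (hq : 0 < q) :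
    IsZero ((pullCl (An.Pts.mapC g)).obj
      (((pushCl (An.Pts.mapC f)).rightDerived q).obj ((An.epsPull X).obj I))) := by
  have : IsProper f' := MorphismProperty.of_isPullback h inferInstance
  obtain ⟨e1⟩ := nonempty_clPBC (isPB_pts h) (H875.ProperMap.isProperMap_map f)
    ((Groth.Agent.S4195.result X S f).1 inferInstance) ((An.epsPull X).obj I) q
  obtain ⟨e2⟩ := nonempty_comp f' h0 hA hl ((EtCoh.pull g').obj I)
    (EtpbcB.NKillEt.killedBy_pull g' hI) q
  obtain ⟨e3⟩ := (Groth.Agent.S0001.result X S X' S' f g f' g' h I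
    (EtpbcB.TorsEt.isTorsion_of_killedBy hl.pos I hI)).1 q
  have hz : IsZero ((EtCoh.Rpush f q).obj I) :=
    EtpbcB.NKillEt.isZero_Rpush_of_nInj f hl.pos hI hN q hq
  have h1 : IsZero ((EtCoh.Rpush f' q).obj ((EtCoh.pull g').obj I)) :=
    ((EtCoh.pull g).map_isZero hz).of_iso e3.symm
  have h2 := ((An.epsPull S').map_isZero h1).of_iso e2.symm
  exact (h2.of_iso (((pushCl (An.Pts.mapC f')).rightDerived q).mapIso
    ((pullEps g').app I).symm)).of_iso e1

end BaseChange

end Groth.Agent.An.H890.Acy
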