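import Groth.Agent.An.H885.EpsGerm
import Groth.Agent.Etbase.EtSite
import Groth.Agent.An.H871.Basic
import Groth.Agent.An.H863.PtsBasic
import Groth.Agent.EtpbcA.EqLocus
import Groth.Agent.Desc.LQF
import Mathlib.AlgebraicGeometry.Morphisms.QuasiFinite

/-!
# The image of the unit `F(U) → (ε^* F)(U(ℂ))` is local; quasi-finite schemes over `ℂ`

* `mem_range_of_local`: the image of an injective morphism of étale sheaves is local;
* `exists_eta_eq_of_local`;
* `bijective_eta_top`: for `X` locally quasi-finite over `ℂ`, `F(X) → (ε^* F)(X(ℂ))` is bijective for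
  every abelian sheaf.
-/

set_option autoImplicit false
open CategoryTheory CategoryTheory.Limits AlgebraicGeometry Opposite TopologicalSpace Topology
open Groth.Agent.An.H885.ClPoint Groth.Agent.An.H885.EpsGerm

noncomputable section

namespace Groth.Agent.An.H890.EtaLoc

section general

universe u
variable {X : Scheme.{u}} {F G : EtCoh.Ab X}

/-- The image of an injective morphism of sheaves is local. -/
theorem mem_range_of_local (φ : F ⟶ G) (hφ : ∀ U : X.Etale, Function.Injective (φ.hom.app (op U)))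
    (U : X.Etale) (t : EtCoh.sect G U)
    (h : ∀ u : U.left, ∃ (V : X.Etale) (g : V ⟶ U) (v : V.left) (s : EtCoh.sect F V),
      g.left v = u ∧ φ.hom.app (op V) s = G.obj.map g.op t) :
    ∃ s : EtCoh.sect F U, φ.hom.app (op U) s = t := by
  have hFs := (Presheaf.isSheaf_iff_isSheaf_forget _ _ (forget AddCommGrpCat.{u + 1})).1 F.property
  have hGs := (Presheaf.isSheaf_iff_isSheaf_forget _ _ (forget AddCommGrpCat.{u + 1})).1 G.property
  rw [isSheaf_iff_isSheaf_of_type] at hFs hGs
  let R : Sieve U :=
    { arrows := fun V g => ∃ s : EtCoh.sect F V, φ.hom.app (op V) s = G.obj.map g.op t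
      downward_closed := by
        rintro V W g ⟨s, hs⟩ k
        refine ⟨F.obj.map k.op s, ?_⟩
        have h1 := NatTrans.naturality_apply φ.hom k.op s
        rw [h1, hs, op_comp, Functor.map_comp]
        rfl }
  have hR : R ∈ X.smallEtaleTopology U := by
    rw [Etbase.EtSite.mem_iff]
    intro u
    obtain ⟨V, g, v, s, hv, hs⟩ := h u
    exact ⟨V, g, v, ⟨s, hs⟩, hv⟩
  let x : Presieve.FamilyOfElements (F.obj ⋙ forget AddCommGrpCat.{u + 1}) R.arrows :=
    fun V g hg => hg.choose
  have hx : ∀ {V : X.Etale} (g : V ⟶ U) (hg : R.arrows g),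
      φ.hom.app (op V) (x g hg) = G.obj.map g.op t := fun g hg => hg.choose_spec
  have hc : x.Compatible := by
    intro V W Z g₁ g₂ f₁ f₂ h₁ h₂ e
    apply hφ Z
    have e1 := NatTrans.naturality_apply φ.hom g₁.op (x f₁ h₁)
    have e2 := NatTrans.naturality_apply φ.hom g₂.op (x f₂ h₂)
    refine e1.trans (Eq.trans ?_ e2.symm)
    rw [hx f₁ h₁, hx f₂ h₂]
    have e3 : G.obj.map f₁.op ≫ G.obj.map g₁.op = G.obj.map f₂.op ≫ G.obj.map g₂.op := by
      rw [← Functor.map_comp, ← Functor.map_comp, ← op_comp, ← op_comp, e]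
    exact ConcreteCategory.congr_hom e3 t
  obtain ⟨s, hs, -⟩ := hFs R hR x hc
  refine ⟨s, ?_⟩
  refine (hGs R hR).isSeparatedFor.ext fun V g hg => ?_
  have e1 := NatTrans.naturality_apply φ.hom g.op s
  refine e1.symm.trans ?_
  have e2 : F.obj.map g.op s = x g hg := hs g hg
  exact (congrArg (fun z => φ.hom.app (op V) z) e2).trans (hx g hg)

end general

variable (X : Scheme.{0}) [X.Over An.SC] [LocallyOfFiniteType (X ↘ An.SC)] [Fact An.EtaleLH]
  [An.EpsCont X] (F : EtCoh.Ab X)

/-- A section of `ε^* F` over `U(ℂ)` which comes étale locally from a section of `F` does so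
globally. -/
theorem exists_eta_eq_of_local (U : X.Etale)
    (t : An.Cl.sect ((An.epsPull X).obj F) ((An.eps X).obj U))
    (h : ∀ u : U.left, ∃ (V : X.Etale) (g : V ⟶ U) (v : V.left) (s : EtCoh.sect F V),
      g.left v = u ∧ eta X F V s = res ((An.epsPull X).obj F) ((An.eps X).map g) t) :
    ∃ s : EtCoh.sect F U, eta X F U s = t :=
  mem_range_of_local ((An.epsAdj X).unit.app F) (fun V => eta_injective X F V) U t h

/-- On schemes locally quasi-finite over `ℂ` the unit is bijective on global sections, for every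
abelian sheaf. -/
theorem bijective_eta_top [LocallyQuasiFinite (X ↘ An.SC)] :
    Function.Bijective (eta X F (EtCoh.top X)) := by
  refine ⟨eta_injective X F _, fun t => ?_⟩
  refine exists_eta_eq_of_local X F _ t fun u => ?_
  -- all points are closed
  have hdisc : ∀ (W : X.Etale), DiscreteTopology W.left := by
    intro W
    have : Etale W.hom := W.prop
    have : LocallyQuasiFinite W.hom := Desc.LQF.of_etale W.hom
    have : LocallyQuasiFinite (W.hom ≫ (X ↘ An.SC)) := inferInstance
    have h1 := (W.hom ≫ (X ↘ An.SC)).isDiscrete_preimage_singleton An.cpt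
    have h2 : (W.hom ≫ (X ↘ An.SC)) ⁻¹' {An.cpt} = Set.univ := by
      ext p
      simp only [Set.mem_preimage, Set.mem_singleton_iff, Set.mem_univ, iff_true]
      exact An.eq_cpt _
    rw [h2] at h1
    exact (Homeomorph.Set.univ W.left).discreteTopology_iff.1 h1.to_subtype
  have hd := hdisc (EtCoh.top X)
  obtain ⟨a, ha⟩ := H871.Basic.exists_pts (X := (EtCoh.top X).left) u (isClosed_discrete {u})
  obtain ⟨U, r, C, k, c, x, hx, hr⟩ := exists_eta X F t a
  have hdU := hdisc U
  let O : U.left.Opens := ⟨{(c.toFun x).pt}, isOpen_discrete _⟩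
  let V : X.Etale := EtpbcA.EqLocus.openSub U O
  let j : V ⟶ U := EtpbcA.EqLocus.openι U O
  have hjV : ∀ v : An.Pts V.left, ((An.eps X).map j).toFun v = c.toFun x := by
    intro v
    apply H871.Basic.pt_injective (X := U.left)
    have h1 : (((An.eps X).map j).toFun v).pt = j.left v.pt := An.Pts.pt_map j.left v
    have h2 : j.left v.pt ∈ (O : Set U.left) := by
      rw [← EtpbcA.EqLocus.range_openι U O]
      exact ⟨_, rfl⟩
    rw [h1]
    exact h2
  let σ : (An.eps X).obj V ⟶ C := ⟨fun _ => x, continuous_const, fun v => by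
    rw [← c.over x, ← hjV v]
    exact ((An.eps X).map j).over v⟩
  have hσc : σ ≫ c = (An.eps X).map j := An.Cl.hom_ext (funext fun v => (hjV v).symm)
  let g : V ⟶ EtCoh.top X := (EtCore.topIsTerminal X).from V
  have hσk : σ ≫ k = (An.eps X).map g := by
    refine An.Cl.hom_ext (funext fun v => Subtype.ext ?_)
    have e1 := congrArg Subtype.val ((σ ≫ k).over v)
    have e2 := congrArg Subtype.val (((An.eps X).map g).over v)
    have e3 : ∀ z : An.Pts (EtCoh.top X).left,
        (((An.eps X).obj (EtCoh.top X)).p z).1 = z.1 := fun z => Category.comp_id _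
    rw [e3] at e1 e2
    exact e1.trans e2.symm
  -- a point of `V`
  obtain ⟨v₀, hv₀⟩ : ∃ v₀ : V.left, j.left v₀ = (c.toFun x).pt := by
    have h1 : (c.toFun x).pt ∈ Set.range j.left := by
      rw [EtpbcA.EqLocus.range_openι U O]
      rfl
    exact h1
  have hdV := hdisc V
  obtain ⟨b, hb⟩ := H871.Basic.exists_pts (X := V.left) v₀ (isClosed_discrete {v₀})
  refine ⟨V, g, v₀, EtpbcA.Germ.res F j r, ?_, ?_⟩
  · have h1 : (((An.eps X).map g).toFun b).pt = g.left b.pt := An.Pts.pt_map g.left b
    rw [hb] at h1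
    rw [← h1, ← hσk]
    change (k.toFun x).pt = u
    rw [hx, ha]
  · rw [← res_eta, ← hσk, ← hσc, res_comp, res_comp, hr]

end Groth.Agent.An.H890.EtaLoc
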