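import Groth.Agent.An.H890.Theta
import Groth.Agent.An.H890.EtaLoc
import Groth.Agent.An.H878.Point
import Groth.Agent.EtpbcB.BCIso

/-!
# The comparison map over a point

* `isIso_of_bij_self`: on a one-point space isomorphisms are detected on global sections;
* `isIso_theta_pt`: for `p : Z ⟶ Spec ℂ`, `θ_p` is an isomorphism at `F` if `F(Z) → (ε^* F)(Z(ℂ))` is
  bijective.
-/

set_option autoImplicit false
open CategoryTheory CategoryTheory.Limits AlgebraicGeometry Opposite TopologicalSpace Topology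
open Groth.Agent.An.H884.ClBC
open Groth.Agent.An.H890.ULiftSite
open Groth.Agent.An.H890.Mates Groth.Agent.An.H890.Theta Groth.Agent.An.H890.EtaLoc
open Groth.Agent.An.H885.ClPoint Groth.Agent.An.H885.EpsGerm

noncomputable section

namespace Groth.Agent.An.H890.PtCl

section Top

variable {P : Type} [TopologicalSpace P]

instance hasSheafCompose_cl :
    (An.Cl.topology P).HasSheafCompose (forget AddCommGrpCat.{1}) :=
  hasSheafCompose_of_preservesLimitsOfSize.{0, 1} _

/-- The morphism from the one-point space to an object given by a point. -/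
def ptHom [Subsingleton P] (A : An.Cl P) (a : A.E) : An.Cl.self P ⟶ A :=
  ⟨fun _ => a, continuous_const, fun _ => Subsingleton.elim _ _⟩

/-- Elementwise criterion for an isomorphism on the classical site. -/
theorem isIso_of_local {F G : An.Cl.Ab P} (φ : F ⟶ G)
    (hinj : ∀ (A : An.Cl P) (s : An.Cl.sect F A), φ.hom.app (op A) s = 0 → ∀ a : A.E,
      ∃ (B : An.Cl P) (g : B ⟶ A) (b : B.E), g.toFun b = a ∧ F.obj.map g.op s = 0)
    (hsurj : ∀ (A : An.Cl P) (t : An.Cl.sect G A) (a : A.E),
      ∃ (B : An.Cl P) (g : B ⟶ A) (b : B.E) (s : An.Cl.sect F B), g.toFun b = a ∧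
        φ.hom.app (op B) s = G.obj.map g.op t) : IsIso φ := by
  refine (Sheaf.isLocallyBijective_iff_isIso (J := An.Cl.topology P) (A := AddCommGrpCat.{1}) φ).mp
    ⟨?_, ?_⟩
  · constructor
    intro A x y h
    rw [mem_topology_iff]
    intro a
    have h0 : φ.hom.app (op A.unop) (x - y) = 0 := by
      have : φ.hom.app A (x - y) = φ.hom.app A x - φ.hom.app A y := map_sub _ _ _
      exact this.trans (sub_eq_zero.2 h)
    obtain ⟨B, g, b, hb, hg⟩ := hinj A.unop (x - y) h0 a
    refine ⟨B, g, b, ?_, hb⟩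
    have : F.obj.map g.op (x - y) = F.obj.map g.op x - F.obj.map g.op y := map_sub _ _ _
    exact sub_eq_zero.1 (this.symm.trans hg)
  · constructor
    intro A t
    rw [mem_topology_iff]
    intro a
    obtain ⟨B, g, b, s, hb, hs⟩ := hsurj A t a
    exact ⟨B, g, b, ⟨s, hs⟩, hb⟩

/-- On a one-point space isomorphisms are detected on global sections. -/
theorem isIso_of_bij_self [Subsingleton P] [Nonempty P] {F G : An.Cl.Ab P} (φ : F ⟶ G)
    (h : Function.Bijective (φ.hom.app (op (An.Cl.self P)))) : IsIso φ := by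
  obtain ⟨t⟩ := (inferInstance : Nonempty P)
  apply isIso_of_local
  · intro A s hs a
    refine ⟨An.Cl.self P, ptHom A a, t, rfl, ?_⟩
    apply h.1
    have h1 := NatTrans.naturality_apply φ.hom (ptHom A a).op s
    rw [h1, hs, map_zero, map_zero]
  · intro A s a
    obtain ⟨r, hr⟩ := h.2 (G.obj.map (ptHom A a).op s)
    exact ⟨An.Cl.self P, ptHom A a, t, r, rfl, hr⟩

end Top

section Scheme

variable [Fact An.EtaleLH] [An.EpsCont An.SC]

instance lft_SC : LocallyOfFiniteType (An.SC ↘ An.SC) := by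
  have e : (An.SC ↘ An.SC) = 𝟙 An.SC := rfl
  rw [e]; infer_instance

instance lqf_SC : LocallyQuasiFinite (An.SC ↘ An.SC) := by
  have e : (An.SC ↘ An.SC) = 𝟙 An.SC := rfl
  rw [e]; infer_instance

variable {Z : Scheme.{0}} [Z.Over An.SC] [LocallyOfFiniteType (Z ↘ An.SC)] [An.EpsCont Z]
  (p : Z ⟶ An.SC) [p.IsOver An.SC]

theorem isIso_theta_pt (F : EtCoh.Ab Z) (h : Function.Bijective (eta Z F (EtCoh.top Z))) :
    IsIso ((theta p).app F) := by
  have : Nonempty (An.Pts An.SC) := ⟨H878.Point.point⟩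
  apply isIso_of_bij_self
  have hu := unit_bcOf (An.epsAdj Z) (An.epsAdj An.SC) (gamma p).hom F
  have h1 : EtpbcB.BCIso.BijAt ((EtCoh.push p).map ((An.epsAdj Z).unit.app F) ≫
      (gamma p).hom.app ((An.epsPull Z).obj F)) (EtCoh.top An.SC) :=
    EtpbcB.BCIso.bijAt_comp _ _ _ ((EtpbcB.BCIso.bijAt_push_top p _).2 h)
      (EtpbcB.BCIso.bijAt_of_isIso _ _)
  rw [← hu] at h1
  have h2 := EtpbcB.BCIso.bijAt_of_comp_left _ _ _
    (bijective_eta_top An.SC ((EtCoh.push p).obj F)) h1
  have h3 : IsIso (((theta p).app F).hom.app (op ((An.eps An.SC).obj (EtCoh.top An.SC)))) :=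
    (ConcreteCategory.isIso_iff_bijective _).2 h2
  exact (ConcreteCategory.isIso_iff_bijective _).1
    ((NatTrans.isIso_app_iff_of_iso ((theta p).app F).hom (An.epsTopIso An.SC).symm.op).1 h3)

end Scheme

end Groth.Agent.An.H890.PtCl
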