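import Groth.Agent.An.H890.ClDer
import Groth.Agent.An.H890.PtCl

/-!
# Higher direct images to a one-point space and cohomology

* `nonempty_H_iso`: `(R^q p_* G)(pt) ≅ H^q(T, G)` for `p : T → pt`;
* `isZero_Rpush_pt_iff`.
-/

set_option autoImplicit false
open CategoryTheory CategoryTheory.Limits AlgebraicGeometry Opposite TopologicalSpace Topology
open CategoryTheory.Abelian
open Groth.Agent.An.H884.ClBC Groth.Agent.An.H890.ULiftSite Groth.Agent.An.H890.PtCl
open Groth.Agent.An.H890.Conserv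
open Groth.Agent.An.H885.ClPoint Groth.Agent.CohtopA.Shifts

noncomputable section

namespace Groth.Agent.An.H890.PtHom

section general

variable (T : Type) [TopologicalSpace T]

/-- `H^0(T, -)` is the functor of sections over `T`. -/
def h0Iso : extFunctorObj.{1} ((constantSheaf (An.Cl.topology T)
    AddCommGrpCat.{1}).obj (AddCommGrpCat.of (ULift.{1} ℤ))) 0 ≅ An.Cl.gsec T :=
  NatIso.ofComponents (fun F =>
    (Sheaf.H.equiv₀ F (An.Cl.selfIsTerminal T)).toAddCommGrpIso) (fun {F G} φ => by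
      ext x
      exact (Sheaf.H.equiv₀_naturality (An.Cl.selfIsTerminal T) φ x).symm)

end general

section point

variable {P : Type} [TopologicalSpace P] [Subsingleton P] [Nonempty P]

instance lim_gsec {T : Type} [TopologicalSpace T] : PreservesFiniteLimits (An.Cl.gsec T) := by
  have : PreservesLimitsOfSize.{0, 0} (An.Cl.gsec T) :=
    (An.Cl.constAdj T).rightAdjoint_preservesLimits
  exact PreservesLimitsOfSize.preservesFiniteLimits _

instance add_gsec {T : Type} [TopologicalSpace T] : (An.Cl.gsec T).Additive where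

theorem epi_gsec {F G : An.Cl.Ab P} (φ : F ⟶ G) [Epi φ] : Epi ((An.Cl.gsec P).map φ) := by
  rw [AddCommGrpCat.epi_iff_surjective]
  intro t
  have h : Sheaf.IsLocallySurjective φ := (Sheaf.isLocallySurjective_iff_epi' _ φ).2 inferInstance
  have h1 := h.imageSieve_mem (U := An.Cl.self P) t
  obtain ⟨p⟩ := (inferInstance : Nonempty P)
  obtain ⟨B, g, b, ⟨x, hx⟩, hb⟩ := (mem_topology_iff _).1 h1 p
  refine ⟨F.obj.map (ptHom B b).op x, ?_⟩
  have h2 := NatTrans.naturality_apply φ.hom (ptHom B b).op x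
  refine h2.trans ?_
  rw [hx]
  have h3 : ptHom B b ≫ g = 𝟙 _ :=
    An.Cl.hom_ext (funext fun _ => Subsingleton.elim (α := P) _ _)
  have h4 : G.obj.map g.op ≫ G.obj.map (ptHom B b).op = 𝟙 _ := by
    rw [← Functor.map_comp, ← op_comp, h3]
    exact G.obj.map_id _
  exact ConcreteCategory.congr_hom h4 t

instance colim_gsec : PreservesFiniteColimits (An.Cl.gsec P) := by
  rw [((Functor.preservesFiniteColimits_tfae (An.Cl.gsec P)).out 3 0 :)]
  intro S hS
  have h1 := (((Functor.preservesFiniteLimits_tfae (An.Cl.gsec P)).out 3 0 :).1 inferInstance) S hS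
  have := hS.epi_g
  exact ⟨h1.1, epi_gsec S.g⟩

theorem isZero_iff_self (M : An.Cl.Ab P) : IsZero M ↔ IsZero ((An.Cl.gsec P).obj M) := by
  refine ⟨fun h => (An.Cl.gsec P).map_isZero h, fun h => ?_⟩
  have hs : Subsingleton ((An.Cl.gsec P).obj M) := AddCommGrpCat.subsingleton_of_isZero h
  have h1 : IsIso (0 : M ⟶ M) := by
    apply isIso_of_bij_self
    have hs' : Subsingleton (M.obj.obj (op (An.Cl.self P))) := hs
    exact ⟨fun _ _ _ => Subsingleton.elim _ _, fun y => ⟨y, Subsingleton.elim _ _⟩⟩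
  rw [IsZero.iff_id_eq_zero]
  have h2 := IsIso.hom_inv_id (0 : M ⟶ M)
  rw [zero_comp] at h2
  exact h2.symm

variable {T : Type} [TopologicalSpace T] (p : C(T, P))

/-- `T ×_P P ≅ T`. -/
def bcSelf : (clBC p).obj (An.Cl.self P) ≅ An.Cl.self T :=
  (clBCSelfTerminal p).uniqueUpToIso (An.Cl.selfIsTerminal T)

/-- Sections of the direct image to a point. -/
def pushGsec : pushCl p ⋙ An.Cl.gsec P ≅ An.Cl.gsec T :=
  NatIso.ofComponents (fun G => G.obj.mapIso (bcSelf p).op.symm) (fun {G G'} φ => by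
    simp only [Functor.comp_map, Functor.mapIso_hom, Iso.symm_hom]
    exact (φ.hom.naturality _).symm)

theorem nonempty_H_iso (G : An.Cl.Ab T) (q : ℕ) :
    Nonempty ((An.Cl.gsec P).obj (((pushCl p).rightDerived q).obj G) ≅
      AddCommGrpCat.of (An.Cl.H G q)) := by
  have h1 := (shifts_rightDerived (pushCl p)).postcomp (An.Cl.gsec P)
  have h2 := shifts_ext.{1} (𝟭 (An.Cl.Ab T)) ((constantSheaf (An.Cl.topology T)
    AddCommGrpCat.{1}).obj (AddCommGrpCat.of (ULift.{1} ℤ))) (fun I hI n => by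
      have : Injective ((𝟭 (An.Cl.Ab T)).obj I) := hI
      exact ⟨fun a b => (Ext.eq_zero_of_injective a).trans (Ext.eq_zero_of_injective b).symm⟩)
  exact nonempty_iso h1 h2 (pushGsec p ≪≫ (h0Iso T).symm) q G

theorem isZero_Rpush_pt_iff (G : An.Cl.Ab T) (q : ℕ) :
    IsZero (((pushCl p).rightDerived q).obj G) ↔ Subsingleton (An.Cl.H G q) := by
  obtain ⟨e⟩ := nonempty_H_iso p G q
  rw [isZero_iff_self]
  constructor
  · intro h
    exact AddCommGrpCat.subsingleton_of_isZero (h.of_iso e.symm)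
  · intro h
    exact (AddCommGrpCat.isZero_of_subsingleton (AddCommGrpCat.of (An.Cl.H G q))).of_iso e

end point

end Groth.Agent.An.H890.PtHom
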