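import Groth.Agent.An.H890.Acy
import Groth.Agent.An.H890.PtHom
import Groth.Agent.An.H4.ColimT2Cl
import Groth.Agent.EtpbcB.TorsVan
import Groth.Agent.S4205
import Groth.Agent.S4211

/-!
# Proper morphisms: acyclicity from the projective line; comparison of higher direct images

* `AcyP1`: `Acy` for `P^1_ℂ → Spec ℂ`;
* `acy_of_isProper : DegZero → AcyP1 → Acy f` for `f` proper;
* `acyclic_tors`;
* `nonempty_natIso_of`: the comparison theorem for proper morphisms from `DegZero` and `AcyP1`.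
-/

set_option autoImplicit false
attribute [-instance] AlgebraicGeometry.specOverSpec
open CategoryTheory CategoryTheory.Limits AlgebraicGeometry Opposite TopologicalSpace Topology
open Groth.Agent.An.H884.ClBC
open Groth.Agent.An.H890.ULiftSite Groth.Agent.An.H890.PtsPB Groth.Agent.An.H890.PtCl
open Groth.Agent.An.H890.Mates Groth.Agent.An.H890.Theta Groth.Agent.An.H890.EtaLoc
open Groth.Agent.An.H890.FibreRed Groth.Agent.An.H890.ClDer Groth.Agent.An.H890.Conserv
open Groth.Agent.An.H890.Acy Groth.Agent.An.H890.PtHom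
open Groth.Agent.An.H885.ClPoint Groth.Agent.An.H885.EpsGerm
open Groth.Agent.EtpbcB.NKill Groth.Agent.EtpbcB.Acyc

noncomputable section

namespace Groth.Agent.An.H890.AcyFinal

variable [Fact An.EtaleLH]

instance epsCont_SC : An.EpsCont An.SC := Groth.Agent.S4209.result _

instance isOver_P1 : (CohB1.ProjSpaceOver.toBase 1 An.SC).IsOver An.SC := ⟨Category.comp_id _⟩

instance isProper_toBase (S : Scheme.{0}) : IsProper (CohB1.ProjSpaceOver.toBase 1 S) :=
  (EtpbcB.Tower.Tower.p1 S).isProper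

instance lft_P1 : LocallyOfFiniteType (CohB1.ProjSpaceOver 1 An.SC ↘ An.SC) :=
  inferInstanceAs (LocallyOfFiniteType (CohB1.ProjSpaceOver.toBase 1 An.SC))

instance epsCont_P1 : An.EpsCont (CohB1.ProjSpaceOver 1 An.SC) := Groth.Agent.S4209.result _

/-- Acyclicity for the projective line over `ℂ`. -/
def AcyP1 : Prop := Acy (CohB1.ProjSpaceOver.toBase 1 An.SC)

/-- `Acy` for a morphism to `Spec ℂ` in terms of cohomology. -/
theorem acy_of_H {Z : Scheme.{0}} [Z.Over An.SC] [LocallyOfFiniteType (Z ↘ An.SC)]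
    [An.EpsCont Z] (p : Z ⟶ An.SC) [p.IsOver An.SC]
    (h : ∀ (J : EtCoh.Ab Z), Injective J → ∀ l : ℕ, l.Prime → ∀ q : ℕ, 0 < q →
      Subsingleton (An.Cl.H ((An.epsPull Z).obj (tor l J)) q)) : Acy p := by
  intro l hl I hI hN
  have hnon : Nonempty (An.Pts An.SC) := ⟨H878.Point.point⟩
  obtain ⟨J, hJ, i, r, hir⟩ := exists_retract ((EtpbcB.NKillEt.killedBy_iff l I).1 hI) hN
  have h1 : Acyclic (pushCl (An.Pts.mapC p)) ((An.epsPull Z).obj (tor l J)) := fun q hq =>
    (isZero_Rpush_pt_iff (An.Pts.mapC p) _ q).2 (h J hJ l hl q hq)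
  exact h1.of_retract ((An.epsPull Z).map i) ((An.epsPull Z).map r)
    (((An.epsPull Z).map_comp i r).symm.trans
      ((congrArg (An.epsPull Z).map hir).trans ((An.epsPull Z).map_id I)))

section squares

variable {X S : Scheme.{0}} [X.Over An.SC] [S.Over An.SC] (f : X ⟶ S) [f.IsOver An.SC]
  [LocallyOfFiniteType (X ↘ An.SC)] [LocallyOfFiniteType (S ↘ An.SC)]
  [An.EpsCont X] [An.EpsCont S]

/-- `Acy` is checked on the fibres. -/
theorem acy_of_squares (h0 : DegZero) [IsProper f]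
    (H : ∀ s : An.Pts S, ∃ (X' : Scheme.{0}) (_ : X'.Over An.SC) (g' : X' ⟶ X) (f' : X' ⟶ An.SC)
      (_ : g'.IsOver An.SC) (_ : f'.IsOver An.SC) (_ : LocallyOfFiniteType (X' ↘ An.SC))
      (_ : An.EpsCont X'), IsPullback g' f' f s.1 ∧ Acy f') : Acy f := by
  intro l hl I hI hN q hq
  refine isZero_of_pullCl (fun s : An.Pts S => An.Pts.mapC s.1)
    (fun s => ⟨s, H878.Point.point, Subtype.ext (Category.id_comp _)⟩) _ (fun s => ?_)
  obtain ⟨X', i1, g', f', i2, i3, i4, i5, h, hA⟩ := H s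
  exact isZero_pullCl_of_acy h h0 hA hl I hI hN q hq

end squares

lemma exists_isPullback_P1 {T S : Scheme.{0}} (φ : T ⟶ S) :
    ∃ g' : CohB1.ProjSpaceOver 1 T ⟶ CohB1.ProjSpaceOver 1 S,
      IsPullback g' (CohB1.ProjSpaceOver.toBase 1 T) (CohB1.ProjSpaceOver.toBase 1 S) φ := by
  have hS : IsPullback (pullback.fst _ _) (CohB1.ProjSpaceOver.toBase 1 S)
    (CohB1.ProjSpace.toSpec 1 (ULift.{0} ℤ)) (specULiftZIsTerminal.from S) :=
    IsPullback.of_hasPullback _ _
  have hT : IsPullback (pullback.fst _ _) (CohB1.ProjSpaceOver.toBase 1 T)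
    (CohB1.ProjSpace.toSpec 1 (ULift.{0} ℤ)) (specULiftZIsTerminal.from T) :=
    IsPullback.of_hasPullback _ _
  have e : φ ≫ specULiftZIsTerminal.from S = specULiftZIsTerminal.from T :=
    specULiftZIsTerminal.hom_ext _ _
  have w : pullback.fst (CohB1.ProjSpace.toSpec 1 (ULift.{0} ℤ)) (specULiftZIsTerminal.from T) ≫
      CohB1.ProjSpace.toSpec 1 (ULift.{0} ℤ) =
      (CohB1.ProjSpaceOver.toBase 1 T ≫ φ) ≫ specULiftZIsTerminal.from S := by
    rw [Category.assoc, e]; exact hT.w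
  refine ⟨hS.lift _ _ w, IsPullback.of_right (h₁₂ := pullback.fst _ _) ?_ (hS.lift_snd _ _ w) hS⟩
  rw [hS.lift_fst, e]
  exact hT

/-- The projective line over any base. -/
theorem acy_P1 (h0 : DegZero) (hP1 : AcyP1) (S : Scheme.{0})
    [(CohB1.ProjSpaceOver 1 S).Over An.SC] [S.Over An.SC]
    [(CohB1.ProjSpaceOver.toBase 1 S).IsOver An.SC]
    [LocallyOfFiniteType (CohB1.ProjSpaceOver 1 S ↘ An.SC)] [LocallyOfFiniteType (S ↘ An.SC)]
    [An.EpsCont (CohB1.ProjSpaceOver 1 S)] [An.EpsCont S] :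
    Acy (CohB1.ProjSpaceOver.toBase 1 S) := by
  refine acy_of_squares _ h0 fun s => ?_
  obtain ⟨g', hg'⟩ := exists_isPullback_P1 s.1
  have hover : g'.IsOver An.SC := ⟨by
    rw [← comp_over (CohB1.ProjSpaceOver.toBase 1 S) An.SC, ← Category.assoc, hg'.w,
      Category.assoc, s.2]
    exact Category.comp_id _⟩
  exact ⟨_, inferInstance, g', CohB1.ProjSpaceOver.toBase 1 An.SC, hover, inferInstance,
    inferInstance, inferInstance, hg', hP1⟩

/-- `Acy` for proper morphisms with separated quasi-compact target. -/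
theorem acy_of_isProper_aff (h0 : DegZero) (hP1 : AcyP1) {X S : Scheme.{0}} [S.IsSeparated]
    [CompactSpace S] (f : X ⟶ S) [IsProper f] [X.Over An.SC] [S.Over An.SC] [f.IsOver An.SC]
    [LocallyOfFiniteType (X ↘ An.SC)] [LocallyOfFiniteType (S ↘ An.SC)]
    [An.EpsCont X] [An.EpsCont S] : Acy f := by
  have key := EtpbcB.ChowTower.devProper
    (P := fun {X S : Scheme.{0}} (f : X ⟶ S) => ∀ (iX : X.Over An.SC) (iS : S.Over An.SC)
      (_ : f.IsOver An.SC) (_ : LocallyOfFiniteType (X ↘ An.SC))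
      (_ : LocallyOfFiniteType (S ↘ An.SC)) (_ : An.EpsCont X) (_ : An.EpsCont S), Acy f)
    ?_ ?_ ?_ ?_ f
  · exact key _ _ inferInstance inferInstance inferInstance inferInstance inferInstance
  · intro X Y f _ iX iY _ _ _ _ _
    exact acy_of_isFinite f
  · intro S iX iS _ _ _ _ _
    exact acy_P1 h0 hP1 S
  · intro X Y Z f g _ _ hf hg iX iZ _ _ _ _ _
    letI : Y.Over An.SC := ⟨g ≫ (Z ↘ An.SC)⟩
    haveI : g.IsOver An.SC := ⟨rfl⟩
    haveI : f.IsOver An.SC := ⟨by
      have := comp_over (f ≫ g) An.SC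
      rw [Category.assoc] at this
      exact this⟩
    haveI : LocallyOfFiniteType (Y ↘ An.SC) :=
      inferInstanceAs (LocallyOfFiniteType (g ≫ (Z ↘ An.SC)))
    haveI : An.EpsCont Y := Groth.Agent.S4209.result Y
    exact acy_comp f g h0 (hf _ _ inferInstance inferInstance inferInstance inferInstance
      inferInstance) (hg _ _ inferInstance inferInstance inferInstance inferInstance inferInstance)
  · intro X Y Z f g _ _ _ hf hfg iY iZ _ _ _ _ _
    letI : X.Over An.SC := ⟨f ≫ (Y ↘ An.SC)⟩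
    haveI : f.IsOver An.SC := ⟨rfl⟩
    haveI : (f ≫ g).IsOver An.SC := ⟨by
      rw [Category.assoc, comp_over g An.SC]
      rfl⟩
    haveI : LocallyOfFiniteType (X ↘ An.SC) :=
      inferInstanceAs (LocallyOfFiniteType (f ≫ (Y ↘ An.SC)))
    haveI : An.EpsCont X := Groth.Agent.S4209.result X
    exact acy_of_surjective f g h0 (hf _ _ inferInstance inferInstance inferInstance inferInstance
      inferInstance) (hfg _ _ inferInstance inferInstance inferInstance inferInstance
      inferInstance)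

section main

variable {X S : Scheme.{0}} [X.Over An.SC] [S.Over An.SC] (f : X ⟶ S) [f.IsOver An.SC]
  [LocallyOfFiniteType (X ↘ An.SC)] [LocallyOfFiniteType (S ↘ An.SC)]
  [An.EpsCont X] [An.EpsCont S]

/-- `Acy` for all proper morphisms. -/
theorem acy_of_isProper (h0 : DegZero) (hP1 : AcyP1) [IsProper f] : Acy f := by
  refine acy_of_squares _ h0 fun s => ?_
  exact ⟨fib f s, inferInstance, fibι f s, pullback.snd f s.1, inferInstance, inferInstance,
    inferInstance, inferInstance, IsPullback.of_hasPullback f s.1,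
    acy_of_isProper_aff h0 hP1 (pullback.snd f s.1)⟩

instance : PreservesColimitsOfShape ℕ (An.epsPull X) :=
  have : PreservesColimitsOfSize.{0, 0} (An.epsPull X) := (An.epsAdj X).leftAdjoint_preservesColimits
  inferInstance

/-- `ε^* J[n]` is acyclic. -/
theorem acyclic_tor (h0 : DegZero) (hP1 : AcyP1) [IsProper f] (J : EtCoh.Ab X) [Injective J]
    {n : ℕ} (hn : 0 < n) : Acyclic (pushCl (An.Pts.mapC f)) ((An.epsPull X).obj (tor n J)) := by
  have hA := acy_of_isProper f h0 hP1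
  refine tor_induction (fun Z => Acyclic (pushCl (An.Pts.mapC f)) ((An.epsPull X).obj Z)) J
    (fun l hl => EtpbcB.NKillEt.epi_nsmul J hl.pos) ?_ ?_ ?_ n hn
  · intro Z hZ q _
    have hadd : ((pushCl (An.Pts.mapC f)).rightDerived q).PreservesZeroMorphisms := inferInstance
    exact ((pushCl (An.Pts.mapC f)).rightDerived q).map_isZero ((An.epsPull X).map_isZero hZ)
  · intro Z hZ h1 h3
    exact Acyclic.mid (hZ.map_of_exact (An.epsPull X)) h1 h3
  · intro l hl
    exact hA l hl _ ((EtpbcB.NKillEt.killedBy_iff l _).2 (killed_tor l J)) (nInj_tor l J)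

/-- `ε^* (tors J)` is acyclic. -/
theorem acyclic_tors (h0 : DegZero) (hP1 : AcyP1) [IsProper f] (J : EtCoh.Ab X) [Injective J] :
    Acyclic (pushCl (An.Pts.mapC f)) ((An.epsPull X).obj (EtpbcB.TorsSub.tors J)) := by
  intro q hq
  refine isZero_of_pullCl (fun s : An.Pts S => An.Pts.mapC s.1)
    (fun s => ⟨s, H878.Point.point, Subtype.ext (Category.id_comp _)⟩) _ (fun s => ?_)
  have hnon : Nonempty (An.Pts An.SC) := ⟨H878.Point.point⟩
  have hqc : QuasiCompact (fib f s ↘ An.SC) := inferInstance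
  obtain ⟨hc, ht⟩ := (Groth.Agent.S4205.result (fib f s)).1 inferInstance
  -- the two sides on the fibre
  have key : ∀ G : An.Cl.Ab (An.Pts X),
      IsZero ((pullCl (An.Pts.mapC s.1)).obj
        (((pushCl (An.Pts.mapC f)).rightDerived q).obj G)) ↔
      IsZero ((An.Cl.HF (An.Pts (fib f s)) q).obj ((pullCl (An.Pts.mapC (fibι f s))).obj G)) := by
    intro G
    obtain ⟨e1⟩ := nonempty_clPBC (isPB_pts (IsPullback.of_hasPullback f s.1))
      (H875.ProperMap.isProperMap_map f)
      ((Groth.Agent.S4195.result X S f).1 inferInstance) G q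
    have h1 := isZero_Rpush_pt_iff (An.Pts.mapC (pullback.snd f s.1))
      ((pullCl (An.Pts.mapC (fibι f s))).obj G) q
    refine Iff.trans ⟨fun h => h.of_iso e1.symm, fun h => h.of_iso e1⟩ (h1.trans ?_)
    exact ⟨fun h => @AddCommGrpCat.isZero_of_subsingleton
      ((An.Cl.HF (An.Pts (fib f s)) q).obj ((pullCl (An.Pts.mapC (fibι f s))).obj G)) h,
      fun h => AddCommGrpCat.subsingleton_of_isZero h⟩
  rw [key]
  have hF : IsFiltered (AsSmall.{1} ℕ) := IsFiltered.of_equivalence AsSmall.equiv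
  have hHF : PreservesColimitsOfShape ℕ (An.Cl.HF (An.Pts (fib f s)) q) := by
    have := H4.ColimT2Cl.preservesColimitsOfShape_HF (An.Pts (fib f s)) (AsSmall.{1} ℕ) q
    exact preservesColimitsOfShape_of_equiv (AsSmall.equiv (C := ℕ)).symm _
  refine EtpbcB.TorsVan.isZero_tors (An.epsPull X ⋙ pullCl (An.Pts.mapC (fibι f s)) ⋙
    An.Cl.HF (An.Pts (fib f s)) q) J (fun k => ?_)
  refine (key _).1 ?_
  exact (pullCl (An.Pts.mapC s.1)).map_isZero
    (acyclic_tor f h0 hP1 J (Nat.factorial_pos k) q hq)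

/-- The comparison on the classical sites. -/
theorem nonempty_natIso_cl (h0 : DegZero) (hP1 : AcyP1) [IsProper f] (q : ℕ) :
    Nonempty ((ObjectProperty.ι (EtCoh.IsTorsion (X := X))) ⋙ EtCoh.Rpush f q ⋙ An.epsPull S ≅
      (ObjectProperty.ι (EtCoh.IsTorsion (X := X))) ⋙ An.epsPull X ⋙
        (pushCl (An.Pts.mapC f)).rightDerived q) :=
  Groth.Agent.An.H890.Compare.nonempty_natIso (EtCoh.push f) (An.epsPull S)
    (An.epsPull X) (pushCl (An.Pts.mapC f)) (theta f) (EtCoh.IsTorsion (X := X))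
    (fun {F F'} p _ h => EtpbcB.TorsionBasic.isTorsion_of_epi p h)
    (fun F hF => isIso_theta_of_degZero f h0 F hF)
    (fun F hF => by
      obtain ⟨J, hJ, i, hi⟩ := EtpbcB.TorsEt.exists_mono_tors F hF
      exact ⟨EtpbcB.TorsSub.tors J, i, hi, EtpbcB.TorsEt.isTorsion_tors J, fun q hq =>
        ⟨EtpbcB.TorsVan.acyclic_push_tors f J q hq, acyclic_tors f h0 hP1 J q hq⟩⟩) q

/-- The comparison theorem for proper morphisms from its two inputs. -/
theorem nonempty_natIso_of [An.OpCont (An.Pts X)] [An.OpCont (An.Pts S)] (h0 : DegZero)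
    (hP1 : AcyP1) [IsProper f] (q : ℕ) :
    Nonempty ((ObjectProperty.ι (EtCoh.IsTorsion (X := X))) ⋙ EtCoh.Rpush f q ⋙ An.anF S ≅
      (ObjectProperty.ι (EtCoh.IsTorsion (X := X))) ⋙ An.anF X ⋙
        An.RpushTop (An.Pts.mapC f) q) := by
  obtain ⟨e₁⟩ := nonempty_natIso_cl f h0 hP1 q
  obtain ⟨e₂⟩ := H862.FinTop.nonempty_resPush (An.Pts.mapC f) q
  let P : ObjectProperty (EtCoh.Ab X) := EtCoh.IsTorsion (X := X)
  let j : P.FullSubcategory ⥤
      (ObjectProperty.FullSubcategory (fun _ : An.Cl.Ab (An.Pts X) => True)) :=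
    ObjectProperty.lift _ (P.ι ⋙ An.epsPull X) (fun _ => trivial)
  exact ⟨(Functor.isoWhiskerRight e₁ (An.resOpens (An.Pts S)) :
      (P.ι ⋙ EtCoh.Rpush f q ⋙ An.epsPull S) ⋙ An.resOpens (An.Pts S) ≅
      (P.ι ⋙ An.epsPull X ⋙ (pushCl (An.Pts.mapC f)).rightDerived q) ⋙
        An.resOpens (An.Pts S)) ≪≫ Functor.isoWhiskerLeft j e₂⟩

end main

end Groth.Agent.An.H890.AcyFinal
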