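import Groth.Agent.An.H890.DegZ
import Groth.Agent.An.H890.AcyFinal
import Groth.Agent.An.H4.CurveEmbedSC
import Groth.Agent.S4224
import Groth.Agent.EtpbcB.FinP1Geom

/-!
# Acyclicity for the projective line over `ℂ`

* `hcmp_of_constructible`: `Hcmp X F q` is bijective for `X` proper of dimension at most one over `ℂ`
  and `F` constructible of `ℓ`-power torsion;
* `acyP1`, `degZero`: the two inputs of `AcyFinal.nonempty_natIso_of`.
-/

set_option autoImplicit false
attribute [-instance] AlgebraicGeometry.specOverSpec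
open CategoryTheory CategoryTheory.Limits AlgebraicGeometry Opposite CategoryTheory.Abelian
open Groth.Agent.Sga4B.ExtCmp Groth.Agent.An.H885.EpsGerm
open Groth.Agent.EtpbcB.NKill

noncomputable section

namespace Groth.Agent.An.H890.BaseP1

variable [Fact An.EtaleLH]

/-- The degree zero comparison for proper schemes. -/
theorem degZero : Groth.Agent.An.H890.Acy.DegZero := by
  intro Z _ _ _ _ F hF
  have := Groth.Agent.S4210.result Z
  exact DegZ.degZero_aux F hF

section curve

variable (X : Scheme.{0}) [X.Over An.SC] [LocallyOfFiniteType (X ↘ An.SC)] [An.EpsCont X]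
  [PreservesFiniteLimits (An.epsPull X)]

theorem hcmp_of_smooth [Smooth (X ↘ An.SC)] (hdim : topologicalKrullDim X ≤ 1) (M : Type)
    [AddCommGroup M] [Finite M] (q : ℕ) : Function.Bijective (An.Hcmp X (EtCoh.const X M) q) :=
  (H888.Collapse.hcmpConst_bijective_iff X M q).1
    (H877.Asm4224.hcmpConst_bijective X hdim (Groth.Agent.S4224.van2 _) M q)

omit [Fact An.EtaleLH] [LocallyOfFiniteType (X ↘ An.SC)] [X.Over An.SC] in
theorem cons_biproduct {K : Type} [Finite K] (G : K → EtCoh.Ab X)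
    (h : ∀ i, EtPBC.IsConstructible (G i)) : EtPBC.IsConstructible (⨁ G) :=
  (H895.Consts.cons X).prop_of_iso (biproduct.isoProduct G).symm
    ((H895.Consts.cons X).prop_product h)

theorem dim_le_of_isIso {Y : Scheme.{0}} (h : Y ⟶ An.SC) [IsIso h] :
    topologicalKrullDim Y ≤ 1 := by
  rw [Flat2D.FibreDimSch.topologicalKrullDim_eq_of_iso (asIso h)]
  have h1 : topologicalKrullDim An.SC = ringKrullDim ℂ :=
    PrimeSpectrum.topologicalKrullDim_eq_ringKrullDim _
  rw [h1, ringKrullDim_eq_zero_of_field]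
  exact zero_le_one

/-- Constructible sheaves of `ℓ`-power torsion on proper schemes of dimension at most one. -/
theorem hcmp_of_constructible [IsProper (X ↘ An.SC)] (hdim : topologicalKrullDim X ≤ 1) (l : ℕ)
    (hl : l.Prime) (q : ℕ) (F : EtCoh.Ab X)
    (hF : EtPBC.IsConstructible F ∧ ∃ ν : ℕ, l ^ ν • 𝟙 F = 0) :
    Function.Bijective (An.Hcmp X F q) := by
  refine H895.Dev.bijective_of_embedding (An.epsPull X) (An.epsPullConst X ℤ).inv
    (fun F : EtCoh.Ab X => EtPBC.IsConstructible F ∧ ∃ ν : ℕ, l ^ ν • 𝟙 F = 0)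
    (fun F hF => ?_) q F hF
  obtain ⟨hF1, ν, hν⟩ := hF
  obtain ⟨K, hK, C, p, hp, Q, e, hQ, j, h1, hj, N, hN⟩ :=
    H4.CurveEmbedSC.exists_curve_embedding X hdim F hF1 l hl ν hν
  have hfin : ∀ k, Finite (ZMod (Q k ^ e k)) := fun k => by
    have : NeZero (Q k ^ e k) := ⟨pow_ne_zero _ (by rw [hQ k]; exact hl.ne_zero)⟩
    infer_instance
  have key : ∀ (k : K) (q : ℕ), Function.Bijective
      (An.Hcmp X ((EtCoh.push (p k)).obj (EtCoh.const (C k) (ZMod (Q k ^ e k)))) q) := by
    intro k q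
    have := hp k
    have := hfin k
    obtain ⟨-, i0, i3, h4⟩ := h1 k
    letI : (C k).Over An.SC := ⟨p k ≫ X ↘ An.SC⟩
    have i1 : (p k).IsOver An.SC := ⟨rfl⟩
    have i2 : LocallyOfFiniteType (C k ↘ An.SC) := by
      change LocallyOfFiniteType (p k ≫ X ↘ An.SC)
      infer_instance
    have i3' : Smooth (C k ↘ An.SC) := i3
    have i4 : An.EpsCont (C k) := Groth.Agent.An.H882.EpsCont.epsCont (C k)
    have i5 : PreservesFiniteLimits (An.epsPull (C k)) :=
      Groth.Agent.An.H883.EpsLim.preservesFiniteLimits_epsPull (C k)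
    have hd : topologicalKrullDim (C k) ≤ 1 := by
      rcases h4 with h4 | h4
      · exact h4.le
      · exact dim_le_of_isIso (p k ≫ X ↘ An.SC)
    exact H895.FinTransfer.hcmp_push (p k) _ q (hcmp_of_smooth (C k) hd _ q)
  have hc : EtPBC.IsConstructible (cokernel j) := by
    refine EtpbcA.ConsExact.isConstructible_cokernel j hF1 (cons_biproduct X _ fun k => ?_)
    have := hp k
    have := hfin k
    have h0 : IsLocallyNoetherian X := LocallyOfFiniteType.isLocallyNoetherian (X ↘ An.SC)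
    have : LocallyOfFinitePresentation (p k) := inferInstance
    exact EtpbcA.FinPush.isConstructible_push (p k) _
      (Etrest.ConstBasic.isConstructible_const (C k) (ZMod (Q k ^ e k)))
  refine ⟨ShortComplex.mk j (cokernel.π j) (cokernel.condition j),
    { exact := ShortComplex.exact_cokernel j, mono_f := hj, epi_g := by dsimp; infer_instance },
    rfl, ⟨hc, N, ?_⟩, fun q => ⟨?_, ?_⟩⟩
  · exact nsmul_eq_zero_of_epi _ (cokernel.π j) hN
  · exact injective_biproduct (An.epsPull X) (An.epsPullConst X ℤ).inv _ q fun k => (key k q).1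
  · exact surjective_biproduct (An.epsPull X) (An.epsPullConst X ℤ).inv _ q fun k => (key k q).2

end curve

section tor

universe w v u

variable {C : Type u} [Category.{v} C] [Abelian C] [HasExt.{w} C]

/-- `Ext^q(A, J[m]) = 0` for `q > 0`, `J` injective and `m` injective on `A`. -/
theorem subsingleton_ext_tor (m : ℕ) (A J : C) [Mono (m • 𝟙 A)] [Injective J]
    (hepi : Epi (m • 𝟙 J)) (q : ℕ) : Subsingleton (Ext.{w} A (tor m J) (q + 1)) := by
  have hS' := torSeq_shortExact m J hepi
  refine subsingleton_of_forall_eq 0 fun x => ?_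
  have hx : x.comp (Ext.mk₀ (torSeq m J).f) (add_zero (q + 1)) = 0 :=
    Ext.eq_zero_of_injective (I := J) _
  obtain ⟨y, rfl⟩ := Ext.covariant_sequence_exact₁ A hS' x hx (n₀ := q) rfl
  obtain ⟨z, hz⟩ : ∃ z : Ext.{w} A (torSeq m J).X₂ q,
      z.comp (Ext.mk₀ (torSeq m J).g) (add_zero q) = y := by
    cases q with
    | zero =>
      obtain ⟨f, rfl⟩ := (Ext.mk₀_bijective A J).2 y
      obtain ⟨g, hg⟩ := exists_nsmul_eq m f
      refine ⟨Ext.mk₀ (Y := (torSeq m J).X₂) g, ?_⟩
      refine (Ext.mk₀_comp_mk₀ _ _).trans ?_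
      congr 1
      change g ≫ (m • 𝟙 J) = f
      rw [Preadditive.comp_nsmul, Category.comp_id, hg]
    | succ q =>
      refine ⟨0, ?_⟩
      rw [Ext.zero_comp]
      exact (Ext.eq_zero_of_injective (I := J) y).symm
  rw [← hz, Ext.comp_assoc_of_second_deg_zero, hS'.comp_extClass, Ext.comp_zero]
  rfl

end tor

section vanish

variable (X : Scheme.{0}) [X.Over An.SC] [LocallyOfFiniteType (X ↘ An.SC)] [An.EpsCont X]
  [PreservesFiniteLimits (An.epsPull X)]

/-- Vanishing for `ε^* J[ℓ]` on proper schemes of dimension at most one. -/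
theorem subsingleton_H [IsProper (X ↘ An.SC)] (hdim : topologicalKrullDim X ≤ 1)
    (J : EtCoh.Ab X) [Injective J] (l : ℕ) (hl : l.Prime) (q : ℕ) (hq : 0 < q) :
    Subsingleton (An.Cl.H ((An.epsPull X).obj (tor l J)) q) := by
  obtain ⟨q, rfl⟩ : ∃ m, q = m + 1 := ⟨q - 1, by omega⟩
  have h1 : CompactSpace X := QuasiCompact.compactSpace_of_compactSpace (X ↘ An.SC)
  have hs : QuasiSeparatedSpace X :=
    (quasiSeparated_iff_quasiSeparatedSpace (X ↘ An.SC)).1 inferInstance
  obtain ⟨hc, ht⟩ := (Groth.Agent.S4205.result X).1 inferInstance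
  have hT : H894.FormalEnd.ColimRep (An.Pts X) (q + 1) :=
    H894.FormalEnd.ColimRep.of_preserves _ _
      fun J _ _ => H4.ColimT2Cl.preservesColimitsOfShape_HF (An.Pts X) J _
  have hkt : EtCoh.KilledBy l (tor l J) := (EtpbcB.NKillEt.killedBy_iff l _).2 (killed_tor l J)
  obtain ⟨I, _, _, D, c, hcol, hD, ⟨e⟩⟩ := EtpbcA.TorsionColim.exists_filtered_consM
    (EtpbcA.TorsionColim.dir_singleton hl.pos) (tor l J) (by
      intro U s x
      exact ⟨U, 𝟙 U, x, rfl, l, rfl, hkt _ _⟩)
  have hmono : Mono (l • 𝟙 (EtCoh.const X ℤ)) :=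
    Sga4B.TorsionFree.mono_nsmul_const X l hl.ne_zero
  have hvan : Subsingleton (Ext.{1} (EtCoh.const X ℤ) (tor l J) (q + 1)) :=
    subsingleton_ext_tor l _ J (EtpbcB.NKillEt.epi_nsmul J hl.pos) q
  have hsur : Function.Surjective (H894.FormalEnd.hc X c.pt (q + 1)) := by
    refine H894.FormalEnd.surjective_colim hcol (q + 1) hT fun j => ?_
    obtain ⟨h2, m, rfl, h3⟩ := hD j
    exact (hcmp_of_constructible X hdim m hl (q + 1) (D.obj j)
      ⟨h2, 1, by rw [pow_one]; exact (Sga4B.TorsionFree.killedBy_iff _ _).1 h3⟩).2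
  have hsur' : Function.Surjective (H894.FormalEnd.hc X (tor l J) (q + 1)) :=
    surjective_of_iso (An.epsPull X) _ e (q + 1) hsur
  exact Function.Surjective.subsingleton hsur'

end vanish

/-- **Acyclicity for the projective line.** -/
theorem acyP1 : Groth.Agent.An.H890.AcyFinal.AcyP1 := by
  have : IsProper (CohB1.ProjSpaceOver 1 An.SC ↘ An.SC) :=
    AcyFinal.isProper_toBase An.SC
  have := Groth.Agent.S4210.result (CohB1.ProjSpaceOver 1 An.SC)
  refine AcyFinal.acy_of_H _ fun J hJ l hl q hq => ?_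
  exact subsingleton_H (CohB1.ProjSpaceOver 1 An.SC)
    (EtpbcB.FinP1Geom.dim_le ℂ 1) J l hl q hq

end Groth.Agent.An.H890.BaseP1
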