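import Groth.Agent.An.H894.FormalEnd
import Groth.Agent.An.H895.ConstReduction
import Groth.Agent.An.H4.ColimT2Cl
import Groth.Agent.An.H885.EpsUnit
import Groth.Agent.An.H890.EtaLoc
import Groth.Agent.S4205
import Groth.Agent.S4209
import Groth.Agent.S4210

/-!
# The comparison in degree zero for proper schemes over `ℂ`

* `hcmp_zero_of_isConstructible`: `Hcmp X F 0` is bijective for `X` of finite type over `ℂ`, `F`
  constructible;
* `hcmp_zero_of_isTorsion`: the same for `X` proper and `F` torsion;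
* `degZero`: `F(X) → (ε^* F)(X(ℂ))` is bijective for `X` proper over `ℂ` and `F` torsion.
-/

set_option autoImplicit false
open CategoryTheory CategoryTheory.Limits AlgebraicGeometry Opposite CategoryTheory.Abelian
open Groth.Agent.Sga4B.ExtCmp Groth.Agent.An.H885.EpsGerm

noncomputable section

namespace Groth.Agent.An.H890.DegZ

section dev

universe w w' v v' u u'

variable {C : Type u} [Category.{v} C] [Abelian C] [HasExt.{w} C]
variable {D : Type u'} [Category.{v'} D] [Abelian D] [HasExt.{w'} D]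
variable (Φ : C ⥤ D) [Φ.Additive] [PreservesFiniteLimits Φ] [PreservesFiniteColimits Φ]
variable {A : C} {B : D} (b : B ⟶ Φ.obj A)

/-- Degree zero, inside a class of objects. -/
theorem zero_bijective_of_embedding (P : C → Prop)
    (hgood : ∀ F, P F → ∃ (S : ShortComplex C) (_ : S.ShortExact) (_ : S.X₁ = F), P S.X₃ ∧
      Function.Bijective (cmp Φ b S.X₂ 0)) :
    ∀ F, P F → Function.Bijective (cmp Φ b F 0) := by
  have inj0 : ∀ F, P F → Function.Injective (cmp Φ b F 0) := by
    intro F hF
    obtain ⟨S, hS, rfl, -, h2⟩ := hgood F hF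
    exact injective_zero_of_mono Φ b hS h2.1
  intro F hF
  refine ⟨inj0 F hF, ?_⟩
  obtain ⟨S, hS, rfl, h3, h2⟩ := hgood F hF
  exact surjective_zero Φ b hS h2.2 (inj0 _ h3)

end dev

section int

/-- The homomorphism `ℤ → A` with value `x` at `1`. -/
def intHom {A : AddCommGrpCat.{1}} (x : A) : AddCommGrpCat.of (ULift.{1} ℤ) ⟶ A :=
  AddCommGrpCat.ofHom ((zmultiplesHom A x).comp AddEquiv.ulift.toAddMonoidHom)

theorem intHom_one {A : AddCommGrpCat.{1}} (x : A) : intHom x (ULift.up 1) = x :=
  one_zsmul x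

theorem intHom_comp {A B : AddCommGrpCat.{1}} (u : A ⟶ B) (x : A) :
    intHom x ≫ u = intHom (u x) := by
  ext n
  exact map_zsmul u.hom n.down x

theorem bijective_of_yoneda_int {A B : AddCommGrpCat.{1}} (u : A ⟶ B)
    (h : Function.Bijective (fun g : AddCommGrpCat.of (ULift.{1} ℤ) ⟶ A => g ≫ u)) :
    Function.Bijective u := by
  constructor
  · intro x y hxy
    have h1 : intHom x = intHom y := h.1 (by
      change intHom x ≫ u = intHom y ≫ u
      rw [intHom_comp, intHom_comp, hxy])
    rw [← intHom_one x, h1, intHom_one]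
  · intro y
    obtain ⟨g, hg⟩ := h.2 (intHom y)
    refine ⟨g (ULift.up 1), ?_⟩
    have h1 := ConcreteCategory.congr_hom hg (ULift.up 1)
    exact h1.trans (intHom_one y)

end int

variable [Fact An.EtaleLH]

section main

attribute [local instance 5000] H894.FormalEnd.additive_epsPull

variable (X : Scheme.{0}) [X.Over An.SC] [LocallyOfFiniteType (X ↘ An.SC)] [An.EpsCont X]
  [PreservesFiniteLimits (An.epsPull X)]

/-- Constant coefficients, degree zero. -/
theorem hcmp_zero_const (M : Type) [AddCommGroup M] [Finite M] :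
    Function.Bijective (An.Hcmp X (EtCoh.const X M) 0) := by
  have h1 : IsIso ((An.epsAdj X).unit.app (EtCoh.const X M)) :=
    H885.EpsUnit.isIso_unit X _ (H885.EpsUnit.isLC_of_isFiniteLocallyConstant X _
      (Groth.Agent.Etrest.ConstBasic.isFiniteLocallyConstant_const X M))
  refine H894.FormalEnd.hc_zero_bijective (X := X) _ ?_
  have h2 : IsIso (((An.epsAdj X).unit.app (EtCoh.const X M)).hom.app (op (EtCoh.top X))) := by
    have : IsIso ((An.epsAdj X).unit.app (EtCoh.const X M)).hom :=
      inferInstanceAs (IsIso ((sheafToPresheaf _ _).map ((An.epsAdj X).unit.app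
        (EtCoh.const X M))))
    infer_instance
  exact ConcreteCategory.bijective_of_isIso
    (((An.epsAdj X).unit.app (EtCoh.const X M)).hom.app (op (EtCoh.top X)))

/-- Constructible coefficients, degree zero. -/
theorem hcmp_zero_of_isConstructible [QuasiCompact (X ↘ An.SC)] (F : EtCoh.Ab X)
    (hF : EtPBC.IsConstructible F) : Function.Bijective (An.Hcmp X F 0) := by
  have h0 : IsLocallyNoetherian X := LocallyOfFiniteType.isLocallyNoetherian (X ↘ An.SC)
  have h1 : CompactSpace X := QuasiCompact.compactSpace_of_compactSpace (X ↘ An.SC)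
  have h2 : IsNoetherian X := {}
  have key : ∀ (Y : Scheme.{0}) (p : Y ⟶ X) [IsFinite p] (M : Type) [AddCommGroup M] [Finite M],
      Function.Bijective (An.Hcmp X ((EtCoh.push p).obj (EtCoh.const Y M)) 0) := by
    intro Y p _ M _ _
    letI : Y.Over An.SC := ⟨p ≫ X ↘ An.SC⟩
    have i1 : p.IsOver An.SC := ⟨rfl⟩
    have i2 : LocallyOfFiniteType (Y ↘ An.SC) := by
      change LocallyOfFiniteType (p ≫ X ↘ An.SC)
      infer_instance
    have i4 : An.EpsCont Y := Groth.Agent.An.H882.EpsCont.epsCont Y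
    have i5 : PreservesFiniteLimits (An.epsPull Y) :=
      Groth.Agent.An.H883.EpsLim.preservesFiniteLimits_epsPull Y
    exact H895.FinTransfer.hcmp_push p (EtCoh.const Y M) 0 (hcmp_zero_const Y M)
  refine zero_bijective_of_embedding (An.epsPull X) (An.epsPullConst X ℤ).inv
    (fun F : EtCoh.Ab X => EtPBC.IsConstructible F) (fun F hF => ?_) F hF
  obtain ⟨n, Y, f, h1, M, h3, h4, ι, hι, hc⟩ := H895.Consts.exists_embedding X F hF
  refine ⟨ShortComplex.mk ι (cokernel.π ι) (cokernel.condition ι),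
    { exact := ShortComplex.exact_cokernel ι, mono_f := hι, epi_g := by dsimp; infer_instance },
    rfl, hc, ⟨?_, ?_⟩⟩
  · refine injective_biproduct (An.epsPull X) (An.epsPullConst X ℤ).inv _ 0 fun i => ?_
    have := h1 i
    exact (key (Y i) (f i) (M i)).1
  · refine surjective_biproduct (An.epsPull X) (An.epsPullConst X ℤ).inv _ 0 fun i => ?_
    have := h1 i
    exact (key (Y i) (f i) (M i)).2

/-- Torsion coefficients on proper schemes, degree zero. -/
theorem hc_zero_of_isTorsion [IsProper (X ↘ An.SC)] (F : EtCoh.Ab X) (hF : EtCoh.IsTorsion F) :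
    Function.Bijective (H894.FormalEnd.hc X F 0) := by
  have h1 : CompactSpace X := QuasiCompact.compactSpace_of_compactSpace (X ↘ An.SC)
  have hs : QuasiSeparatedSpace X :=
    (quasiSeparated_iff_quasiSeparatedSpace (X ↘ An.SC)).1 inferInstance
  obtain ⟨hc, ht⟩ := (Groth.Agent.S4205.result X).1 inferInstance
  have hT : H894.FormalEnd.ColimRep (An.Pts X) 0 := H894.FormalEnd.ColimRep.of_preserves _ 0
    fun J _ _ => H4.ColimT2Cl.preservesColimitsOfShape_HF (An.Pts X) J 0
  obtain ⟨J, _, _, D, c, hcol, hD, ⟨e⟩⟩ := EtpbcA.TorsionColim.exists_filtered_consM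
    EtpbcA.TorsionColim.dir_pos F (by
      intro U s x
      obtain ⟨V, g, ⟨v, hv⟩, h⟩ := hF U s x
      obtain ⟨n, hn, h0⟩ := isOfFinAddOrder_iff_nsmul_eq_zero.1 h
      exact ⟨V, g, v, hv, n, hn, h0⟩)
  have hb : ∀ j, Function.Bijective (H894.FormalEnd.hc X (D.obj j) 0) := fun j =>
    hcmp_zero_of_isConstructible X (D.obj j) (hD j).1
  exact ⟨injective_of_iso (An.epsPull X) _ e 0
      (H894.FormalEnd.injective_colim hcol 0 hT fun j => (hb j).1),
    surjective_of_iso (An.epsPull X) _ e 0
      (H894.FormalEnd.surjective_colim hcol 0 hT fun j => (hb j).2)⟩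

variable {X}

/-- From degree zero to sections. -/
theorem bijective_eta_of_hc (F : EtCoh.Ab X) (h : Function.Bijective (H894.FormalEnd.hc X F 0)) :
    Function.Bijective (eta X F (EtCoh.top X)) := by
  have h4 : Function.Bijective ((H894.FormalEnd.hc X F 0) ∘
      (Ext.mk₀ : (EtCoh.const X ℤ ⟶ F) → _)) := h.comp (Ext.mk₀_bijective _ _)
  have h5 : (H894.FormalEnd.hc X F 0) ∘ (Ext.mk₀ : (EtCoh.const X ℤ ⟶ F) → _) =
        (Ext.mk₀ : _ → Ext.{1} (An.Cl.const (An.Pts X) ℤ) ((An.epsPull X).obj F) 0) ∘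
        (fun f : EtCoh.const X ℤ ⟶ F =>
      (An.epsPullConst X ℤ).inv ≫ (An.epsPull X).map f) := by
    funext f
    change (Ext.mk₀ (An.epsPullConst X ℤ).inv).comp ((Ext.mk₀ f).mapExactFunctor (An.epsPull X))
      (zero_add 0) = Ext.mk₀ _
    rw [Ext.mapExactFunctor_mk₀, Ext.mk₀_comp_mk₀]
  rw [h5] at h4
  have h2 : Function.Bijective (fun f : EtCoh.const X ℤ ⟶ F =>
      (An.epsPullConst X ℤ).inv ≫ (An.epsPull X).map f) :=
    (Function.Bijective.of_comp_iff' (Ext.mk₀_bijective _ _) _).1 h4
  have h3 : (fun f : EtCoh.const X ℤ ⟶ F => f ≫ (An.epsAdj X).unit.app F) =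
      ((An.epsAdj X).homEquiv _ _) ∘ (fun g => (An.epsPullConst X ℤ).hom ≫ g) ∘
        (fun f : EtCoh.const X ℤ ⟶ F => (An.epsPullConst X ℤ).inv ≫ (An.epsPull X).map f) := by
    funext f
    simp only [Function.comp_apply, Iso.hom_inv_id_assoc]
    rw [Adjunction.homEquiv_unit]
    exact (An.epsAdj X).unit.naturality f
  have h1 : Function.Bijective
      (fun f : EtCoh.const X ℤ ⟶ F => f ≫ (An.epsAdj X).unit.app F) := by
    rw [h3]
    refine (Equiv.bijective _).comp (Function.Bijective.comp ⟨fun a b hab => (cancel_epi _).1 hab,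
      fun g => ⟨(An.epsPullConst X ℤ).inv ≫ g, by simp⟩⟩ h2)
  -- sections
  let u := (An.epsAdj X).unit.app F
  let e := (EtCore.constAdj X).homEquiv (AddCommGrpCat.of (ULift.{1} ℤ))
  have h6 : Function.Bijective (fun g : AddCommGrpCat.of (ULift.{1} ℤ) ⟶
      (EtCore.gsec X).obj F => g ≫ (EtCore.gsec X).map u) := by
    have h7 : (fun g : AddCommGrpCat.of (ULift.{1} ℤ) ⟶
      (EtCore.gsec X).obj F => g ≫ (EtCore.gsec X).map u) = (e _) ∘ (fun f => f ≫ u) ∘
        (e F).symm := by
      funext g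
      have h8 := Adjunction.homEquiv_naturality_right (EtCore.constAdj X) ((e F).symm g) u
      refine Eq.trans ?_ h8.symm
      exact congrArg (fun k => k ≫ (EtCore.gsec X).map u) ((e F).apply_symm_apply g).symm
    rw [h7]
    exact (e _).bijective.comp (h1.comp (e F).symm.bijective)
  have h9 := bijective_of_yoneda_int _ h6
  exact h9

/-- **Degree zero comparison for proper schemes over `ℂ`.** -/
theorem degZero_aux [IsProper (X ↘ An.SC)] (F : EtCoh.Ab X) (hF : EtCoh.IsTorsion F) :
    Function.Bijective (eta X F (EtCoh.top X)) :=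
  bijective_eta_of_hc F (hc_zero_of_isTorsion X F hF)

end main

end Groth.Agent.An.H890.DegZ
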