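import Groth.Agent.An.H890.Theta
import Groth.Agent.CohtopA.ProperBC

/-!
# Base change of sheaves on classical sites along cartesian squares with proper `f`

* `isIso_bcOf_of_isEquivalence`;
* `isIso_clBC0`: the base change map `pushCl f ⋙ pullCl g ⟶ pullCl g' ⋙ pushCl f'` is an isomorphism
  when it is so for sheaves on the topological spaces;
* `isIso_clBC0_proper`.
-/

set_option autoImplicit false
open CategoryTheory CategoryTheory.Limits Opposite TopologicalSpace Topology
open Groth.Agent.An.H884.ClBC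
open Groth.Agent.An.H890.SqPush Groth.Agent.An.H890.ULiftSite
open Groth.Agent.An.H890.Mates Groth.Agent.An.H890.Theta
open Groth.Agent.CohtopB Groth.Agent.CohtopA Groth.Agent.CohtopA.ProperBC Groth.Agent.CohtopA.PBSquare

noncomputable section

namespace Groth.Agent.An.H890.TopBC

section equivalence

variable {C D E F : Type*} [Category* C] [Category* D] [Category* E] [Category* F]
  {L₁ : C ⥤ D} {R₁ : D ⥤ C} {L₂ : E ⥤ F} {R₂ : F ⥤ E} {G : C ⥤ E} {H : D ⥤ F}
  (adj₁ : L₁ ⊣ R₁) (adj₂ : L₂ ⊣ R₂) (θ : R₁ ⋙ G ⟶ H ⋙ R₂)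

theorem isIso_bcOf_of_isEquivalence [R₁.IsEquivalence] [R₂.IsEquivalence] [IsIso θ] (c : C) :
    IsIso ((bcOf adj₁ adj₂ θ).app c) := by
  have h := unit_bcOf adj₁ adj₂ θ c
  have : L₁.IsEquivalence := adj₁.isEquivalence_left_of_isEquivalence_right
  have : L₂.IsEquivalence := adj₂.isEquivalence_left_of_isEquivalence_right
  have h2 : IsIso (adj₂.unit.app (G.obj c) ≫ R₂.map ((bcOf adj₁ adj₂ θ).app c)) := by
    rw [h]; infer_instance
  have h3 : IsIso (R₂.map ((bcOf adj₁ adj₂ θ).app c)) :=
    IsIso.of_isIso_comp_left (adj₂.unit.app (G.obj c)) _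
  exact isIso_of_reflects_iso _ R₂

end equivalence

variable {A B A' B' : Type} [TopologicalSpace A] [TopologicalSpace B] [TopologicalSpace A']
  [TopologicalSpace B'] {f : C(A, B)} {g : C(B', B)} {f' : C(A', B')} {g' : C(A', A)}
  (w : f.comp g' = g.comp f')

include w in
lemma uMap_w : uMap g' ≫ uMap f = uMap f' ≫ uMap g := by
  ext x
  exact DFunLike.congr_fun w x.down

/-- `κ` as a natural transformation. -/
def κNat : CohTop.push (uMap g') ⋙ CohTop.push (uMap f) ⟶
    CohTop.push (uMap f') ⋙ CohTop.push (uMap g) where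
  app G := κ (uMap g') (uMap f') (uMap f) (uMap g) (uMap_w w) G
  naturality _ _ φ := κ_naturality (uMap g') (uMap f') (uMap f) (uMap g) (uMap_w w) φ

theorem β_eq : β (uMap g') (uMap f') (uMap f) (uMap g) (uMap_w w) =
    bcOf (TopPull.adj (uMap g')) (TopPull.adj (uMap g)) (κNat w) := rfl

/-- The adjunction whose right adjoint is `resU`. -/
def adjU (T : Type) [TopologicalSpace T] : (resU T).inv ⊣ resU T :=
  (resU T).asEquivalence.symm.toAdjunction

theorem top_compat (d : An.Cl.Ab A') :
    (CohTop.push (uMap f)).map ((resUPush g').hom.app d) ≫ (κNat w).app ((resU A').obj d) ≫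
      (CohTop.push (uMap g)).map ((resUPush f').inv.app d) =
    ((resUPush f).inv.app ((pushCl g').obj d) ≫
      (resU B).map ((clTheta w).hom.app d)) ≫
        (resUPush g).hom.app ((pushCl f').obj d) := by
  apply Sheaf.hom_ext
  ext V : 2
  change d.obj.map _ ≫ d.obj.map _ ≫ d.obj.map _ = (d.obj.map _ ≫ d.obj.map _) ≫ d.obj.map _
  simp only [← Functor.map_comp]
  rfl

/-- Transport of degree zero base change from topological spaces to classical sites. -/
theorem isIso_clBC0 (h : IsIso (β (uMap g') (uMap f') (uMap f) (uMap g) (uMap_w w)))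
    (F : An.Cl.Ab A) : IsIso ((bcOf (adjCl g') (adjCl g) (clTheta w).hom).app F) := by
  have h0 : ∀ c, IsIso ((bcOf (adjCl g') (adjCl g) (clTheta w).hom).app ((resU A).inv.obj c)) := by
    intro c
    have key := isIso_cube_iff (G := CohTop.push (uMap f)) (K := pushCl f') (H₁ := pushCl f)
      (H₂ := CohTop.push (uMap f')) (adjU A) (adjU B) (adjCl g') (adjCl g)
      (TopPull.adj (uMap g')) (TopPull.adj (uMap g)) (adjU A') (adjU B')
      (resUPush f).inv (clTheta w).hom (κNat w) (resUPush f').inv (resUPush g') (resUPush g)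
      (top_compat w) c
    have h1 : IsIso ((bcOf (TopPull.adj (uMap g')) (TopPull.adj (uMap g)) (κNat w)).app c) := by
      rw [← β_eq]; infer_instance
    have h2 := isIso_bcOf_of_isEquivalence (adjU A') (adjU B') (resUPush f').inv
      ((CohTop.pull (uMap g')).obj c)
    have h3 := isIso_bcOf_of_isEquivalence (adjU A) (adjU B) (resUPush f).inv c
    have := key.2 (by infer_instance)
    exact IsIso.of_isIso_comp_left ((pullCl g).map
      ((bcOf (adjU A) (adjU B) (resUPush f).inv).app c)) _
  have e : (resU A).inv.obj ((resU A).obj F) ≅ F := (resU A).asEquivalence.unitIso.symm.app F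
  have hn := (bcOf (adjCl g') (adjCl g) (clTheta w).hom).naturality e.hom
  have := h0 ((resU A).obj F)
  have h4 : IsIso ((pushCl f ⋙ pullCl g).map e.hom ≫
      (bcOf (adjCl g') (adjCl g) (clTheta w).hom).app F) := by
    rw [hn]; infer_instance
  exact IsIso.of_isIso_comp_left ((pushCl f ⋙ pullCl g).map e.hom) _

end Groth.Agent.An.H890.TopBC
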